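import Groth.Agent.L05.EulerDiv.Length
import Mathlib.LinearAlgebra.Dimension.Localization
import Mathlib.LinearAlgebra.Dimension.Finite
import Mathlib.RingTheory.DiscreteValuationRing.Basic
import Mathlib.RingTheory.IntegralClosure.IsIntegralClosure.Basic
import Mathlib.RingTheory.Artinian.Module

/-!
# The index of multiplication by a nonzero element on a module over a finite extension of a DVR
-/

set_option autoImplicit false
set_option linter.style.haveILetI false
set_option linter.unusedSectionVars false
universe u

noncomputable section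

namespace Groth.L13.ArAdj

open nonZeroDivisors

variable {R : Type u} [CommRing R] [IsDomain R] [IsDiscreteValuationRing R]

/-- A finite module killed by a nonzero element of a DVR has finite length. -/
theorem length_ne_top_of_kill {M : Type u} [AddCommGroup M] [Module R M] [Module.Finite R M] {r : R} (hr : r ≠ 0)
    (h : ∀ x : M, r • x = 0) : Module.length R M ≠ ⊤ := by
  haveI : Ring.KrullDimLE 1 R := inferInstance
  let I := Ideal.span {r}
  haveI : Ring.KrullDimLE 0 (R ⧸ I) := by
    rw [Ring.krullDimLE_zero_iff]
    intro P hP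
    haveI := hP
    have hne : Ideal.comap (Ideal.Quotient.mk I) P ≠ ⊥ := fun h0 => hr (by
      have : r ∈ Ideal.comap (Ideal.Quotient.mk I) P := by
        rw [Ideal.mem_comap, Ideal.Quotient.eq_zero_iff_mem.2 (Ideal.mem_span_singleton_self r)]
        exact P.zero_mem
      rwa [h0, Ideal.mem_bot] at this)
    haveI := (Ideal.IsPrime.comap (Ideal.Quotient.mk I)).isMaximal hne
    have hcm := Ideal.map_comap_of_surjective _ Ideal.Quotient.mk_surjective P
    rw [← hcm]
    exact (Ideal.map_eq_top_or_isMaximal_of_surjective _ Ideal.Quotient.mk_surjective ‹_›).resolve_left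
      (by rw [hcm]; exact hP.ne_top)
  haveI : IsArtinianRing (R ⧸ I) := isArtinianRing_iff_krullDimLE_zero.2 inferInstance
  have htor : Module.IsTorsionBySet R M (I : Set R) := by
    rintro x ⟨a, ha⟩
    obtain ⟨c, rfl⟩ := Ideal.mem_span_singleton'.1 ha
    show (c * r) • x = 0
    rw [mul_smul, h, smul_zero]
  letI := htor.module
  haveI : IsScalarTower R (R ⧸ I) M := htor.isScalarTower
  haveI : Module.Finite (R ⧸ I) M := Module.Finite.of_restrictScalars_finite R _ _
  rw [Module.length_eq_of_surjective (S := R) (R := R ⧸ I) (M := M) Ideal.Quotient.mk_surjective]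
  exact Module.length_ne_top

variable {A : Type u} [CommRing A] [IsDomain A] [Algebra R A] [Module.Finite R A] [FaithfulSMul R A]
  {M : Type u} [AddCommGroup M] [Module A M] [Module R M] [IsScalarTower R A M] [Module.Finite R M]

/-- A nonzero element divides a nonzero constant. -/
theorem exists_const_mem {t : A} (ht : t ≠ 0) : ∃ r : R, r ≠ 0 ∧ algebraMap R A r ∈ Ideal.span {t} := by
  haveI : Algebra.IsIntegral R A := Algebra.IsIntegral.of_finite R A
  obtain ⟨r, hr, hr0⟩ := Submodule.exists_mem_ne_zero_of_ne_bot
    (Ideal.comap_ne_bot_of_integral_mem (R := R) ht (Ideal.mem_span_singleton_self t) (Algebra.IsIntegral.isIntegral t))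
  exact ⟨r, hr0, hr⟩

/-- Multiplication by an element, linear over the constants. -/
def smulR (t : A) (N : Type u) [AddCommGroup N] [Module A N] [Module R N] [IsScalarTower R A N] : N →ₗ[R] N :=
  (LinearMap.lsmul A N t).restrictScalars R

theorem length_coker_ne_top {t : A} (ht : t ≠ 0) :
    Module.length R (M ⧸ LinearMap.range (smulR (R := R) t M)) ≠ ⊤ := by
  obtain ⟨r, hr, hmem⟩ := exists_const_mem (R := R) ht
  obtain ⟨c, hc⟩ := Ideal.mem_span_singleton'.1 hmem
  refine length_ne_top_of_kill hr fun x => ?_
  induction x using Submodule.Quotient.induction_on with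
  | _ y =>
    rw [← Submodule.Quotient.mk_smul, Submodule.Quotient.mk_eq_zero]
    refine ⟨c • y, ?_⟩
    show t • c • y = r • y
    rw [smul_smul, mul_comm, hc, algebraMap_smul]

theorem length_ker_ne_top {t : A} (ht : t ≠ 0) :
    Module.length R (LinearMap.ker (smulR (R := R) t M)) ≠ ⊤ := by
  obtain ⟨r, hr, hmem⟩ := exists_const_mem (R := R) ht
  obtain ⟨c, hc⟩ := Ideal.mem_span_singleton'.1 hmem
  refine length_ne_top_of_kill hr fun x => Subtype.ext ?_
  show r • x.1 = 0
  have hx : t • x.1 = 0 := x.2
  rw [← algebraMap_smul A r x.1, ← hc, mul_smul, hx, smul_zero]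

variable (M) in
/-- The index of `t` on a finite module is the rank times the index on the ring. -/
theorem exists_index_eq {t : A} (ht : t ≠ 0) :
    ∃ d : ℕ, Module.finrank R M = d * Module.finrank R A ∧
      (Module.length R (M ⧸ LinearMap.range (smulR (R := R) t M))).toNat =
        d * (Module.length R (A ⧸ LinearMap.range (smulR (R := R) t A))).toNat +
          (Module.length R (LinearMap.ker (smulR (R := R) t M))).toNat := by
  classical
  haveI : Module.Finite A M := Module.Finite.of_restrictScalars_finite R A M
  let d := Module.finrank A M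
  obtain ⟨v, hv⟩ := exists_linearIndependent_of_le_finrank (R := A) (M := M) (n := d) le_rfl
  let F := Submodule.span A (Set.range v)
  -- the quotient is torsion of finite length
  have hFrank : Module.rank A F = d := by
    haveI : Module.Finite A F := Module.Finite.span_of_finite A (Set.finite_range v)
    rw [← Module.finrank_eq_rank, finrank_span_eq_card hv, Fintype.card_fin]
  have hQ0 : Module.rank A (M ⧸ F) = 0 := by
    have h := rank_quotient_add_rank_of_isDomain F
    rw [hFrank, ← Module.finrank_eq_rank A M] at h
    exact Cardinal.eq_of_add_eq_add_right (h.trans (zero_add _).symm) Cardinal.natCast_lt_aleph0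
  obtain ⟨r, hr, hkill⟩ : ∃ r : R, r ≠ 0 ∧ ∀ x : M ⧸ F, r • x = 0 := by
    obtain ⟨S, hS⟩ := Module.Finite.fg_top (R := A) (M := M ⧸ F)
    have htors : ∀ x : M ⧸ F, ∃ a : A, a ≠ 0 ∧ a • x = 0 := rank_eq_zero_iff.1 hQ0
    choose a ha0 ha using htors
    have hp : (∏ x ∈ S, a x) ≠ 0 := Finset.prod_ne_zero_iff.2 fun x _ => ha0 x
    obtain ⟨r, hr, hmem⟩ := exists_const_mem (R := R) hp
    obtain ⟨c, hc⟩ := Ideal.mem_span_singleton'.1 hmem
    refine ⟨r, hr, fun x => ?_⟩
    rw [← algebraMap_smul A r x, ← hc, mul_smul]
    suffices (∏ x ∈ S, a x) • x = 0 by rw [this, smul_zero]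
    induction (show x ∈ Submodule.span A (S : Set (M ⧸ F)) from hS.ge trivial) using Submodule.span_induction with
    | mem z hz =>
      obtain ⟨w, hw⟩ : a z ∣ ∏ x ∈ S, a x := Finset.dvd_prod_of_mem _ hz
      rw [hw, mul_comm, mul_smul, ha, smul_zero]
    | zero => exact smul_zero _
    | add z w _ _ hz hw => rw [smul_add, hz, hw, add_zero]
    | smul b z _ hz => rw [smul_comm, hz, smul_zero]
  -- the coordinates
  let f : (Fin d → A) →ₗ[A] M := Fintype.linearCombination A v
  have hf : Function.Injective f := fun x y hxy => funext (Fintype.linearIndependent_iffₛ.1 hv x y hxy)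
  have hfr : LinearMap.range f = F := Fintype.range_linearCombination A v
  let fR := f.restrictScalars R
  let Q := M ⧸ LinearMap.range fR
  have hQkill : ∀ x : Q, r • x = 0 := fun x => by
    induction x using Submodule.Quotient.induction_on with
    | _ y =>
      rw [← Submodule.Quotient.mk_smul, Submodule.Quotient.mk_eq_zero]
      have h := hkill (Submodule.Quotient.mk y)
      rw [← Submodule.Quotient.mk_smul, Submodule.Quotient.mk_eq_zero, ← hfr] at h
      exact h
  have hQ : Module.length R Q ≠ ⊤ := length_ne_top_of_kill hr hQkill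
  refine ⟨d, ?_, ?_⟩
  · have h := rank_quotient_add_rank_of_isDomain (LinearMap.range fR)
    have h0 : Module.rank R Q = 0 := rank_eq_zero_iff.2 fun x => ⟨r, hr, hQkill x⟩
    rw [h0, zero_add, ← (LinearEquiv.ofInjective fR hf).rank_eq] at h
    have h' := congrArg Cardinal.toNat h
    rw [← Module.finrank, ← Module.finrank] at h'
    haveI : Module.Free R A := Module.free_of_finite_type_torsion_free'
    rw [← h', Module.finrank_pi_fintype]
    simp
  · -- 0 → M[t] → M/F → M/tF → M/tM → 0 and 0 → F/tF → M/tF → M/F → 0
    let μ := smulR (R := R) t M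
    let tF := (LinearMap.range fR).map μ
    let T := M ⧸ tF
    let b : Q →ₗ[R] T := (LinearMap.range fR).liftQ (tF.mkQ.comp μ) fun x hx =>
      (Submodule.Quotient.mk_eq_zero _).2 ⟨x, hx, rfl⟩
    let c : T →ₗ[R] M ⧸ LinearMap.range μ := tF.liftQ (LinearMap.range μ).mkQ fun x hx => by
      obtain ⟨y, -, rfl⟩ := hx
      exact (Submodule.Quotient.mk_eq_zero _).2 ⟨y, rfl⟩
    let a : LinearMap.ker μ →ₗ[R] Q := (LinearMap.range fR).mkQ.comp (LinearMap.ker μ).subtype
    have ha : Function.Injective a := by
      rintro ⟨x, hx⟩ ⟨y, hy⟩ hxy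
      obtain ⟨z, hz⟩ := (Submodule.Quotient.eq _).1 hxy
      have h0 : t • f z = 0 := by
        show μ (f z) = 0
        rw [show f z = x - y from hz, map_sub, LinearMap.mem_ker.1 hx, LinearMap.mem_ker.1 hy, sub_zero]
      have hz0 : z = 0 := funext fun i => (mul_eq_zero.1
        (congrFun (hf ((map_smul f t z).trans (h0.trans (map_zero f).symm))) i)).resolve_left ht
      exact Subtype.ext (sub_eq_zero.1 ((show f z = x - y from hz).symm.trans (by rw [hz0, map_zero])))
    have hab : Function.Exact a b := fun q => by
      induction q using Submodule.Quotient.induction_on with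
      | _ x =>
        constructor
        · intro hx
          obtain ⟨y, hy, hyx⟩ := (Submodule.Quotient.mk_eq_zero _).1 hx
          refine ⟨⟨x - y, by rw [LinearMap.mem_ker, map_sub, hyx, sub_self]⟩, ?_⟩
          show Submodule.Quotient.mk (x - y) = Submodule.Quotient.mk x
          rw [Submodule.Quotient.eq]
          simpa using hy
        · rintro ⟨⟨y, hy⟩, hyx⟩
          rw [← hyx]
          show tF.mkQ (μ y) = 0
          rw [LinearMap.mem_ker.1 hy, map_zero]
    have hbc : Function.Exact b c := fun q => by
      induction q using Submodule.Quotient.induction_on with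
      | _ x =>
        constructor
        · intro hx
          obtain ⟨y, hy⟩ := (Submodule.Quotient.mk_eq_zero _).1 hx
          exact ⟨Submodule.Quotient.mk y, congrArg tF.mkQ hy⟩
        · rintro ⟨y, hy⟩
          rw [← hy]
          induction y using Submodule.Quotient.induction_on with
          | _ w => exact (Submodule.Quotient.mk_eq_zero _).2 ⟨w, rfl⟩
    have hcs : Function.Surjective c := fun q => by
      induction q using Submodule.Quotient.induction_on with
      | _ x => exact ⟨Submodule.Quotient.mk x, rfl⟩
    -- F / tF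
    let P := (Fin d → A) ⧸ LinearMap.range (smulR (R := R) t (Fin d → A))
    let i : P →ₗ[R] T := Submodule.liftQ _ (tF.mkQ.comp fR) fun x hx => by
      obtain ⟨y, rfl⟩ := hx
      exact (Submodule.Quotient.mk_eq_zero _).2 ⟨f y, ⟨y, rfl⟩, (map_smul f t y).symm⟩
    let p : T →ₗ[R] Q := tF.liftQ (LinearMap.range fR).mkQ fun x hx => by
      obtain ⟨y, ⟨z, rfl⟩, rfl⟩ := hx
      exact (Submodule.Quotient.mk_eq_zero _).2 ⟨t • z, map_smul f t z⟩
    have hi : Function.Injective i := (injective_iff_map_eq_zero _).2 fun q hq => by
      induction q using Submodule.Quotient.induction_on with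
      | _ x =>
        obtain ⟨y, ⟨z, rfl⟩, hz⟩ := (Submodule.Quotient.mk_eq_zero _).1 hq
        exact (Submodule.Quotient.mk_eq_zero _).2 ⟨z, hf ((map_smul f t z).trans hz)⟩
    have hip : Function.Exact i p := fun q => by
      induction q using Submodule.Quotient.induction_on with
      | _ x =>
        constructor
        · intro hx
          obtain ⟨y, hy⟩ := (Submodule.Quotient.mk_eq_zero _).1 hx
          exact ⟨Submodule.Quotient.mk y, congrArg tF.mkQ hy⟩
        · rintro ⟨y, hy⟩
          rw [← hy]
          induction y using Submodule.Quotient.induction_on with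
          | _ w => exact (Submodule.Quotient.mk_eq_zero _).2 ⟨w, rfl⟩
    have hps : Function.Surjective p := fun q => by
      induction q using Submodule.Quotient.induction_on with
      | _ x => exact ⟨Submodule.Quotient.mk x, rfl⟩
    -- lengths
    have hPd : Module.length R P = d * Module.length R (A ⧸ LinearMap.range (smulR (R := R) t A)) := by
      have e : P ≃ₗ[R] (Fin d → A ⧸ LinearMap.range (smulR (R := R) t A)) :=
        (Submodule.quotEquivOfEq _ _ (by
          ext x
          simp only [Submodule.mem_pi, Set.mem_univ, true_implies, LinearMap.mem_range]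
          refine ⟨fun ⟨y, hy⟩ j => ⟨y j, congrFun hy j⟩, fun h => ?_⟩
          choose y hy using h
          exact ⟨y, funext hy⟩)).trans (Submodule.quotientPi fun _ => LinearMap.range (smulR (R := R) t A))
      rw [e.length_eq, Module.length_pi_of_fintype]
      simp
    have hA := length_coker_ne_top (R := R) (M := A) ht
    have hPne : Module.length R P ≠ ⊤ := by
      rw [hPd]
      exact WithTop.mul_ne_top (ENat.natCast_ne_top _) hA
    have hT := Module.length_eq_add_of_exact i p hi hps hip
    have hTne : Module.length R T ≠ ⊤ := by rw [hT]; exact WithTop.add_ne_top.2 ⟨hPne, hQ⟩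
    have h1 := Groth.L05.EulerDiv.toNat_exact a b hab hQ
    have h2 := Groth.L05.EulerDiv.toNat_exact b c hbc hTne
    rw [(LinearEquiv.ofInjective a ha).length_eq.symm] at h1
    rw [LinearMap.range_eq_top.2 hcs, Module.length_top] at h2
    have h3 : (Module.length R T).toNat = (Module.length R P).toNat + (Module.length R Q).toNat := by
      rw [hT, ENat.toNat_add hPne hQ]
    rw [hPd, ENat.toNat_mul] at h3
    simp only [ENat.toNat_natCast] at h3
    simp only [μ] at h1 h2 ⊢
    omega

end Groth.L13.ArAdj
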