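import Groth.Agent.L05.EulerDiv.Length
import Groth.Agent.L05.ArFamily.Main

/-!
# Euler characteristics of the divisors of a family of vertical curves
-/

set_option autoImplicit false
set_option backward.isDefEq.respectTransparency false
set_option linter.style.haveILetI false
set_option linter.unusedSectionVars false
universe u

open CategoryTheory CategoryTheory.Limits AlgebraicGeometry TopologicalSpace Groth.L16

noncomputable section

namespace Groth.L13.ArAdj

open Groth.L05.InterPair Groth.L05.FibreDecomp Groth.L05.EulerDiv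
open Groth.L16.CohLinear (hmap delta overLin exact_hmap_hmap exact_hmap_delta exact_delta_hmap)

variable {R : Type u} [CommRing R] [IsDomain R] [IsDiscreteValuationRing R]
  {X : Over (Spec (CommRingCat.of R))} [IsProper X.hom] [IsLocallyNoetherian X.left]
  [Flat X.hom] [IsIntegral X.left] (hreg : Models.IsRegularScheme X.left)
  (hdim : topologicalKrullDim X.left = 2) {n : ℕ} {Γs : Fin n → ArSurf.VertComp R X}

include hreg hdim

theorem isEffCartier_div (a : Fin n → ℕ) : BlowUp.IsEffCartierIdeal (Groth.L05.InterPair.div Γs a) :=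
  isEffCartier_prod _ fun i _ => isEffCartier_pow (isEffCartier_of_surface hreg hdim (Γs i)) _

theorem negDeg_div (Γ : ArSurf.VertComp R X) (a : Fin n → ℕ) :
    negDeg Γ (Groth.L05.InterPair.div Γs a) = ∑ i, (a i : ℤ) * negDeg Γ (Γs i).ι.ker := by
  rw [Groth.L05.InterPair.div, negDeg_prod Γ _ fun i _ => isEffCartier_pow (isEffCartier_of_surface hreg hdim (Γs i)) _]
  exact Finset.sum_congr rfl fun i _ => negDeg_pow Γ (isEffCartier_of_surface hreg hdim (Γs i)) _

omit hreg hdim in
theorem div_add_single (a : Fin n → ℕ) (i : Fin n) :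
    Groth.L05.InterPair.div Γs (fun j => a j + if j = i then 1 else 0) = Groth.L05.InterPair.div Γs a * (Γs i).ι.ker := by
  classical
  simp only [Groth.L05.InterPair.div, pow_add, Finset.prod_mul_distrib, pow_ite, pow_one, pow_zero]
  rw [Finset.prod_ite_eq' Finset.univ i (fun j => (Γs j).ι.ker), if_pos (Finset.mem_univ i)]

omit hreg hdim in
theorem isZero_quot_div_zero : IsZero (ClSub.quotMod (Groth.L05.InterPair.div Γs fun _ => 0)) := by
  have h1 : Groth.L05.InterPair.div Γs (fun _ => 0) = 1 := Finset.prod_eq_one fun j _ => pow_zero _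
  rw [h1]
  exact (Groth.L21.Mod.isZero_iff_stalk_subsingleton _).2 fun x =>
    Groth.L21.RR.subsingleton_stalk_quotMod 1 (by simp)

omit hreg hdim in
/-- Induction over the effective divisors by adding one component at a time. -/
theorem coeff_induction {P : (Fin n → ℕ) → Prop} (h0 : P fun _ => 0)
    (hs : ∀ a i, P a → P fun j => a j + if j = i then 1 else 0) (a : Fin n → ℕ) : P a := by
  classical
  suffices ∀ (m : ℕ) (a : Fin n → ℕ), ∑ j, a j = m → P a from this _ a rfl
  intro m
  induction m with
  | zero =>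
    intro a ha
    rw [show a = fun _ => 0 from funext fun j => Finset.sum_eq_zero_iff.1 ha j (Finset.mem_univ j)]
    exact h0
  | succ m ih =>
    intro a ha
    obtain ⟨i, hi⟩ : ∃ i, 0 < a i := by
      by_contra h
      push Not at h
      rw [Finset.sum_eq_zero fun j _ => Nat.le_zero.1 (h j)] at ha
      omega
    have hae : a = fun j => Function.update a i (a i - 1) j + if j = i then 1 else 0 := by
      funext j
      rcases eq_or_ne j i with rfl | hj
      · rw [Function.update_self, if_pos rfl]; omega
      · rw [Function.update_of_ne hj, if_neg hj, add_zero]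
    rw [hae]
    refine hs _ i (ih _ ?_)
    have hsum := Finset.sum_update_of_mem (Finset.mem_univ i) a (a i - 1)
    have hsum' := Finset.sum_eq_add_sum_sdiff_singleton_of_mem (Finset.mem_univ i) a
    omega

/-- Adding one curve to a divisor. -/
theorem step (a : Fin n → ℕ) (i : Fin n) :
    letI : X.left.Over (Spec (CommRingCat.of R)) := ⟨X.hom⟩
    HasLen R (ClSub.quotMod (Groth.L05.InterPair.div Γs a)) →
      HasLen R (ClSub.quotMod (Groth.L05.InterPair.div Γs fun j => a j + if j = i then 1 else 0)) ∧
      chi R (ClSub.quotMod (Groth.L05.InterPair.div Γs fun j => a j + if j = i then 1 else 0)) =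
        chi R (ClSub.quotMod (Groth.L05.InterPair.div Γs a)) +
          ((∑ j, (a j : ℤ) * negDeg (Γs i) (Γs j).ι.ker) +
            ((Models.wdeg R X (Γs i) : ℤ) - (Models.h1 R X (Γs i) : ℤ))) := by
  classical
  letI : X.left.Over (Spec (CommRingCat.of R)) := ⟨X.hom⟩
  intro hL
  have hI := isEffCartier_div hreg hdim (Γs := Γs) a
  have hmul := div_add_single (Γs := Γs) a i
  obtain ⟨h1, h2, h3⟩ := lengths_tensor_quot (Γs i)
    ((Groth.Agent.L19.IdealInvertible.isEffCartier_iff _).2 hI)
  obtain ⟨f, g, w, hS, -⟩ := exists_shortExact_quot (Groth.L05.InterPair.div Γs a) (Γs i).ι.ker hI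
  have hA := hasLen_middle (A := R) hS h1 hL
  have hB := chi_add (A := R) hS h1 hL (h2 2 le_rfl)
  have hN := negDeg_div hreg hdim (Γs := Γs) (Γs i) a
  simp only [negDeg] at hN
  rw [hmul]
  refine ⟨hA, ?_⟩
  simp only [negDeg]
  rw [hB, h3, hN]
  ring

theorem hasLen_div : letI : X.left.Over (Spec (CommRingCat.of R)) := ⟨X.hom⟩
    ∀ a : Fin n → ℕ, HasLen R (ClSub.quotMod (Groth.L05.InterPair.div Γs a)) := by
  letI : X.left.Over (Spec (CommRingCat.of R)) := ⟨X.hom⟩
  intro a
  induction a using coeff_induction with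
  | h0 =>
    intro k _
    haveI := Groth.L03.Euler.subsingleton_HH_of_isZero (isZero_quot_div_zero (Γs := Γs)) k
    rw [Module.length_eq_zero]
    exact ENat.zero_ne_top
  | hs a i h => exact (step hreg hdim a i h).1

/-- No cohomology above degree one. -/
theorem subsingleton_div (a : Fin n → ℕ) (k : ℕ) (hk : 2 ≤ k) :
    Subsingleton (Coh.HH X.left (ClSub.quotMod (Groth.L05.InterPair.div Γs a)) k) := by
  letI : X.left.Over (Spec (CommRingCat.of R)) := ⟨X.hom⟩
  induction a using coeff_induction with
  | h0 => exact Groth.L03.Euler.subsingleton_HH_of_isZero (isZero_quot_div_zero (Γs := Γs)) k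
  | hs a i h =>
    have hI := isEffCartier_div hreg hdim (Γs := Γs) a
    obtain ⟨f, g, w, hS, -⟩ := exists_shortExact_quot (Groth.L05.InterPair.div Γs a) (Γs i).ι.ker hI
    haveI h1 := (lengths_tensor_quot (Γs i)
      ((Groth.Agent.L19.IdealInvertible.isEffCartier_iff _).2 hI)).2.1 k hk
    rw [div_add_single (Γs := Γs) a i]
    refine subsingleton_of_forall_eq 0 fun x => ?_
    obtain ⟨y, rfl⟩ := (exact_hmap_hmap hS k x).1 (Subsingleton.elim _ _)
    rw [Subsingleton.elim y 0, map_zero]

variable (hinj : Function.Injective fun i => Set.range ((Γs i).ι.base : (Γs i).curve.left → X.left))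
  {L : Fin n → X.left.Modules} (hL : ∀ i, ClSub.IsInverseOf (L i) (ClSub.idealMod (Γs i).ι.ker))

include hinj hL

theorem inter_symm (i j : Fin n) :
    ArSurf.inter R X (L j) (Γs i) = ArSurf.inter R X (L i) (Γs j) := by
  rcases eq_or_ne i j with rfl | hij
  · rfl
  exact Groth.L05.ArFamily.inter_symm_of_ne hreg hdim (fun h => hij (hinj h)) (hL i) (hL j)

theorem sum_negDeg_eq (a : Fin n → ℕ) (i : Fin n) :
    ∑ j, (a j : ℤ) * negDeg (Γs i) (Γs j).ι.ker =
      -∑ j, (a j : ℤ) * ArSurf.inter R X (L j) (Γs i) := by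
  rw [← Finset.sum_neg_distrib]
  refine Finset.sum_congr rfl fun j _ => ?_
  rw [inter_eq_neg_negDeg (Γs i) (isEffCartier_of_surface hreg hdim (Γs j)) (hL j)]
  ring

/-- The Euler characteristic of a divisor of the family. -/
theorem two_mul_chi_div : letI : X.left.Over (Spec (CommRingCat.of R)) := ⟨X.hom⟩
    ∀ a : Fin n → ℕ, 2 * chi R (ClSub.quotMod (Groth.L05.InterPair.div Γs a)) =
      (∑ i, (a i : ℤ) * (2 * ((Models.wdeg R X (Γs i) : ℤ) - (Models.h1 R X (Γs i) : ℤ)) +
          ArSurf.inter R X (L i) (Γs i))) -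
        ∑ i, (a i : ℤ) * ∑ j, (a j : ℤ) * ArSurf.inter R X (L j) (Γs i) := by
  classical
  letI : X.left.Over (Spec (CommRingCat.of R)) := ⟨X.hom⟩
  intro a
  induction a using coeff_induction with
  | h0 =>
    have hz := isZero_quot_div_zero (Γs := Γs)
    have h : ∀ k, Module.length R (Coh.HH X.left (ClSub.quotMod (Groth.L05.InterPair.div Γs fun _ => 0)) k) = 0 :=
      fun k => by
        haveI := Groth.L03.Euler.subsingleton_HH_of_isZero hz k
        exact Module.length_eq_zero
    simp only [chi, h]
    simp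
  | hs a i h =>
    have hs := (step hreg hdim (Γs := Γs) a i (hasLen_div hreg hdim (Γs := Γs) a)).2
    rw [sum_negDeg_eq hreg hdim hinj hL a i] at hs
    rw [hs]
    have hx : ∀ (k : Fin n) (y : ℤ), ((if k = i then (1 : ℕ) else 0 : ℕ) : ℤ) * y = if k = i then y else 0 :=
      fun k y => by split <;> simp
    simp only [Nat.cast_add, add_mul, mul_add, Finset.sum_add_distrib, hx, Finset.sum_ite_eq',
      Finset.mem_univ, if_true]
    have hsym : ∑ k, (a k : ℤ) * ArSurf.inter R X (L i) (Γs k) = ∑ k, (a k : ℤ) * ArSurf.inter R X (L k) (Γs i) :=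
      Finset.sum_congr rfl fun k _ => by rw [inter_symm hreg hdim hinj hL k i]
    simp only [mul_add, Finset.sum_add_distrib] at h
    linarith

end Groth.L13.ArAdj
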