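import Groth.Agent.L05.EulerDiv.Fibre
import Groth.Agent.L13.ArAdj.DivFamily
import Groth.Agent.L13.Canon.VertDegree
import Groth.Agent.L05.RelMinExists.Main

/-!
# Lengths on closed subschemes of the closed fibre, and the canonical degree of a vertical curve
-/

set_option autoImplicit false
set_option backward.isDefEq.respectTransparency false
set_option linter.style.haveILetI false
set_option linter.unusedSectionVars false
universe u

open CategoryTheory CategoryTheory.Limits AlgebraicGeometry TopologicalSpace Groth.L16

noncomputable section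

namespace Groth.L13.ArAdj

open Groth.L05.InterPair Groth.L05.EulerDiv

variable {R : Type u} [CommRing R] [IsDomain R] [IsDiscreteValuationRing R]
  {X : Over (Spec (CommRingCat.of R))} [IsProper X.hom] [IsLocallyNoetherian X.left]

local notation "κ" => IsLocalRing.ResidueField R

/-- The cohomology of a closed subscheme of the closed fibre, in lengths over the base. -/
theorem length_HH_subscheme (I : X.left.IdealSheafData) (g : I.subscheme ⟶ Spec (CommRingCat.of κ))
    (hg : g ≫ Spec.map (CommRingCat.ofHom (IsLocalRing.residue R)) = I.subschemeι ≫ X.hom) (k : ℕ) :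
    letI : X.left.Over (Spec (CommRingCat.of R)) := ⟨X.hom⟩
    Module.length R (Coh.HH X.left (ClSub.quotMod I) k) =
      (Models.hRank κ I.subscheme g (Coh.structureModule I.subscheme) k : ℕ∞) := by
  letI : X.left.Over (Spec (CommRingCat.of R)) := ⟨X.hom⟩
  letI : I.subscheme.Over (Spec (CommRingCat.of κ)) := ⟨g⟩
  haveI : X.left.IsSeparated := ⟨by rw [← terminal.comp_from X.hom]; infer_instance⟩
  haveI : IsClosedImmersion (Spec.map (CommRingCat.ofHom (IsLocalRing.residue R))) := isClosedImmersion_pt
  haveI : IsProper (g ≫ Spec.map (CommRingCat.ofHom (IsLocalRing.residue R))) := hg ▸ inferInstance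
  haveI : IsProper (I.subscheme ↘ Spec (CommRingCat.of κ)) :=
    IsProper.of_comp g (Spec.map (CommRingCat.ofHom (IsLocalRing.residue R)))
  haveI := Groth.L21.RR.isNoetherian_of_proper (X := I.subscheme) κ
  letI : I.subscheme.Over (Spec (CommRingCat.of R)) := ⟨I.subschemeι ≫ X.hom⟩
  set F := Coh.structureModule I.subscheme
  have hF : Coh.IsCoh F := Groth.L16.CohClosedPush.isCoh_structure
  obtain ⟨φ⟩ := exists_HH_push (A := R) I.subschemeι F hF.1 rfl k
  refine φ.length_eq.symm.trans ?_
  haveI : Module.Finite κ (Coh.HH I.subscheme F k) := Groth.L21.RR.finite_HH' (k := κ) hF k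
  haveI : IsScalarTower R κ (Coh.HH I.subscheme F k) :=
    IsScalarTower.of_algebraMap_smul fun r x => by
      have h0 : Coh.toGlobal g (IsLocalRing.residue R r) = Coh.toGlobal (I.subschemeι ≫ X.hom) r := by
        rw [← hg]
        simp only [Coh.toGlobal, Scheme.Hom.comp_appTop, CommRingCat.hom_comp, RingHom.comp_apply]
        exact congrArg (fun t => g.appTop t)
          congr($(Scheme.ΓSpecIso_inv_naturality (CommRingCat.ofHom (IsLocalRing.residue R))) r)
      exact congrArg (fun c : Coh.Γtop I.subscheme => c • x) h0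
  rw [Module.length_eq_of_surjective (S := R) (R := κ) (M := Coh.HH I.subscheme F k)
    Ideal.Quotient.mk_surjective, Module.length_eq_finrank]
  rfl

/-- Adjunction for one vertical curve, in the terms of the model. -/
theorem canonical_inter_eq (hX : ArSurf.IsArithSurface R X) (E : ArSurf.VertComp R X) {L : X.left.Modules}
    (hL : ClSub.IsInverseOf L (ClSub.idealMod E.ι.ker)) {ω : X.left.Modules} (hω : Canon.IsCanonical X.hom ω) :
    ArSurf.inter R X ω E =
      -(2 * ((Models.wdeg R X E : ℤ) - (Models.h1 R X E : ℤ)) + ArSurf.inter R X L E) := by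
  have h := Groth.L13.Canon.inter_add_inter hX E hL hω
  haveI := Groth.L05.InterPair.isProper_curve E
  rw [Groth.L21.RR.euler_eq κ E.dim_eq.le] at h
  simp only [Groth.L21.RR.h] at h
  simp only [Models.wdeg, Models.h1]
  linarith

/-- Adjunction for a divisor of the family: the quadratic expression is `-2 χ`. -/
theorem quad_eq_neg_two_chi [Flat X.hom] [IsIntegral X.left] (hX : ArSurf.IsArithSurface R X) {n : ℕ}
    {Γs : Fin n → ArSurf.VertComp R X}
    (hinj : Function.Injective fun i => Set.range ((Γs i).ι.base : (Γs i).curve.left → X.left))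
    {L : Fin n → X.left.Modules} (hL : ∀ i, ClSub.IsInverseOf (L i) (ClSub.idealMod (Γs i).ι.ker))
    {ω : X.left.Modules} (hω : Canon.IsCanonical X.hom ω) (a : Fin n → ℕ) :
    letI : X.left.Over (Spec (CommRingCat.of R)) := ⟨X.hom⟩
    ∑ i, (a i : ℤ) * (∑ j, (a j : ℤ) * ArSurf.inter R X (L j) (Γs i) + ArSurf.inter R X ω (Γs i)) =
      -2 * chi R (ClSub.quotMod (Groth.L05.InterPair.div Γs a)) := by
  letI : X.left.Over (Spec (CommRingCat.of R)) := ⟨X.hom⟩
  rw [neg_mul, two_mul_chi_div hX.1 hX.2.2.1 hinj hL a]
  simp only [canonical_inter_eq hX _ (hL _) hω, mul_add, Finset.sum_add_distrib, mul_neg, Finset.sum_neg_distrib]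
  ring

end Groth.L13.ArAdj
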