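import Groth.Agent.L13.ArAdj.Isolated
import Groth.Agent.L13.ArAdj.Index
import Groth.Agent.L13.ArAdj.Lengths
import Groth.Agent.L16.Rees.StalkFF

/-!
# A component which is a connected component of the closed fibre has the Euler characteristic of the generic
fibre, up to positive factors
-/

set_option autoImplicit false
set_option backward.isDefEq.respectTransparency false
set_option linter.style.haveILetI false
set_option linter.unusedSectionVars false
universe u

open CategoryTheory CategoryTheory.Limits AlgebraicGeometry TopologicalSpace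
open scoped TensorProduct

noncomputable section

namespace Groth.L13.ArAdj

open Groth.L05.InterPair Groth.L05.FibreDecomp Groth.L05.EulerDiv
open Groth.L16.CohLinear (hmap overLin delta exact_hmap_hmap exact_hmap_delta exact_delta_hmap)

variable {R : Type u} [CommRing R] [IsDomain R] [IsDiscreteValuationRing R]
  {X : Over (Spec (CommRingCat.of R))} [IsProper X.hom] [IsLocallyNoetherian X.left]
  [IsIntegral X.left] [Flat X.hom]

/-- Ranks over the constants are dimensions on the generic fibre. -/
theorem finrank_generic (n : ℕ) :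
    letI : X.left.Over (Spec (CommRingCat.of R)) := ⟨X.hom⟩
    Module.finrank (FractionRing R) (Coh.HH ((Neron.genericFibre R).obj X).left
        (Coh.structureModule ((Neron.genericFibre R).obj X).left) n) =
      Module.finrank R (Coh.HH X.left (Coh.structureModule X.left) n) := by
  letI : X.left.Over (Spec (CommRingCat.of R)) := ⟨X.hom⟩
  let K := FractionRing R
  let g : ((Neron.genericFibre R).obj X).left ⟶ X.left := pullback.fst X.hom (Neron.genPt R)
  let f' : ((Neron.genericFibre R).obj X).left ⟶ Spec (CommRingCat.of K) := pullback.snd X.hom (Neron.genPt R)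
  haveI : Coh.IsQCoh (Coh.structureModule X.left) := (Groth.L16.CohClosedPush.isCoh_structure (X := X.left)).1
  letI : Module K (Coh.HH ((Neron.genericFibre R).obj X).left ((Scheme.Modules.pullback g).obj
    (Coh.structureModule X.left)) n) := Module.compHom _ (Coh.toGlobal f')
  obtain ⟨e⟩ := Groth.L16.Rees.exists_flat_bc_equiv (A := R) (B := K) X.hom f' g
    (IsPullback.of_hasPullback X.hom (Neron.genPt R)) (Coh.structureModule X.left) n
  let M := Coh.HH X.left (Coh.structureModule X.left) n
  letI : ((Neron.genericFibre R).obj X).left.Over (Spec (CommRingCat.of K)) := ⟨f'⟩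
  rw [← (Groth.L05.InterPair.hhIso (A := K) (Groth.L29.LocFree.pullbackUnitIso g) n).finrank_eq]
  refine e.finrank_eq.symm.trans ?_
  haveI : IsLocalizedModule (nonZeroDivisors R) (TensorProduct.mk R K M 1) :=
    (isLocalizedModule_iff_isBaseChange (nonZeroDivisors R) K _).2 (TensorProduct.isBaseChange R _ K)
  rw [IsLocalization.finrank_eq (R := R) K (nonZeroDivisors R) le_rfl]
  exact IsLocalizedModule.finrank_eq (nonZeroDivisors R) (TensorProduct.mk R K M 1) le_rfl

variable (hX : ArSurf.IsArithSurface R X) (E : ArSurf.VertComp R X) {L : X.left.Modules}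
  (hL : ClSub.IsInverseOf L (ClSub.idealMod E.ι.ker)) {ω : X.left.Modules} (hω : Canon.IsCanonical X.hom ω)

include hX hL hω in
/-- The canonical degree of a connected component of the closed fibre and the Euler characteristic of the
generic fibre have opposite signs. -/
theorem canonical_inter_of_isolated (hEE : ArSurf.inter R X L E = 0) :
    ∃ c₁ c₂ : ℤ, 0 < c₁ ∧ 0 < c₂ ∧
      -ArSurf.inter R X ω E * c₁ =
        FGA.eulerCharLE (FractionRing R) ((Neron.genericFibre R).obj X).left
          (Coh.structureModule ((Neron.genericFibre R).obj X).left) 1 * c₂ := by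
  classical
  letI : X.left.Over (Spec (CommRingCat.of R)) := ⟨X.hom⟩
  haveI : IsProper (X.left ↘ Spec (CommRingCat.of R)) := ‹IsProper X.hom›
  haveI : IsNoetherianRing (CommRingCat.of R) := inferInstanceAs (IsNoetherianRing R)
  obtain ⟨t, a, ht, ha, hJ⟩ := exists_princ_eq_pow hX E hL hEE
  let p := Groth.L05.ExcCurve.sΓ X.left
  have htop := Groth.L05.ExcCurve.toGlobal_sΓ X.left
  have htg : (show Γ(X.left, ⊤) from Coh.toGlobal p t) ≠ 0 := by rw [htop]; exact ht
  obtain ⟨f, w, hS, hf⟩ := exists_ses_princ p htg
  -- the constants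
  letI : Algebra R Γ(X.left, ⊤) := (Coh.toGlobal X.hom).toAlgebra
  have hfin : ∀ n, Module.Finite R (Coh.HH X.left (Coh.structureModule X.left) n) := fun n =>
    Groth.L16.ProperFinite.finite_HH R (Groth.L16.CohClosedPush.isCoh_structure (X := X.left)) n
  let e₀ : Coh.HH X.left (Coh.structureModule X.left) 0 ≃ₗ[R] Γ(X.left, ⊤) :=
    { Groth.L21.RR.e0 (Coh.structureModule X.left) with
      map_smul' := fun c x => by
        show Sheaf.H.equiv₀ _ _ (Sheaf.H.map (Coh.smulAb (Coh.structureModule X.left) _) 0 x) = _
        rw [← Sheaf.H.equiv₀_naturality]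
        refine (Coh.smulAb_app (Coh.structureModule X.left) _ (Opposite.op ⊤) _).trans ?_
        show Coh.resTop X.left (Opposite.op ⊤) _ * _ = _
        congr 1
        simp [Coh.resTop]
        rfl }
  haveI := hfin 0
  haveI : Module.Finite R Γ(X.left, ⊤) := Module.Finite.equiv e₀
  haveI : FaithfulSMul R Γ(X.left, ⊤) := by
    refine (faithfulSMul_iff_algebraMap_injective R _).2 ((injective_iff_map_eq_zero _).2 fun r hr => ?_)
    by_contra hne
    refine stalkHom_ne_zero (X := X) (genericPoint X.left) hne ?_
    have h := congrArg (X.left.presheaf.germ ⊤ (genericPoint X.left) trivial) hr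
    rw [map_zero] at h
    exact h
  letI iA : ∀ n, Module Γ(X.left, ⊤) (Coh.HH X.left (Coh.structureModule X.left) n) := fun n =>
    inferInstanceAs (Module (Coh.Γtop X.left) (Coh.HH X.left (Coh.structureModule X.left) n))
  haveI iT : ∀ n, IsScalarTower R Γ(X.left, ⊤) (Coh.HH X.left (Coh.structureModule X.left) n) := fun n =>
    IsScalarTower.of_algebraMap_smul fun _ _ => rfl
  let μ := fun n => smulR (R := R) t (Coh.HH X.left (Coh.structureModule X.left) n)
  have hμ : ∀ n, overLin R (hmap f n) = μ n := fun n => LinearMap.ext fun x =>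
    (hf n x).trans (congrArg (fun c : Coh.Γtop X.left => c • x) (htop t))
  -- the divisor
  have hdiv : princ p t = Groth.L05.InterPair.div (fun _ : Fin 1 => E) (fun _ => a) := by
    rw [hJ, Groth.L05.InterPair.div]
    simp
  set C := ClSub.quotMod (princ p t) with hC
  have hlen : ∀ i ≤ 1, Module.length R (Coh.HH X.left C i) ≠ ⊤ := by
    rw [hC, hdiv]
    exact hasLen_div (Γs := fun _ : Fin 1 => E) hX.1 hX.2.2.1 fun _ => a
  haveI hC2 : Subsingleton (Coh.HH X.left C 2) := by
    rw [hC, hdiv]
    exact subsingleton_div (Γs := fun _ : Fin 1 => E) hX.1 hX.2.2.1 (fun _ => a) 2 le_rfl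
  have hμ2 : Function.Injective (μ 2) := by
    haveI := hfin 2
    refine IsNoetherian.injective_of_surjective_endomorphism _ fun x => ?_
    obtain ⟨y, hy⟩ := (exact_hmap_hmap hS 2 x).1 (Subsingleton.elim _ _)
    exact ⟨y, by rw [← hμ]; exact hy⟩
  have hμ0 : Function.Injective (μ 0) := by
    rw [← hμ]
    haveI := hS.mono_f
    exact Groth.L21.RR.injective_hmap_zero f
  -- lengths
  have hg : ∀ n, (Module.length R (LinearMap.range (overLin R (hmap (ClSub.toSubscheme (princ p t)) n)))).toNat =
      (Module.length R (Coh.HH X.left (Coh.structureModule X.left) n ⧸ LinearMap.range (μ n))).toNat := fun n => by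
    refine congrArg ENat.toNat (((LinearMap.quotKerEquivRange _).symm.trans
      (Submodule.quotEquivOfEq _ _ ?_)).length_eq)
    rw [← hμ n]
    exact LinearMap.exact_iff.1 (show Function.Exact (overLin R (hmap f n))
      (overLin R (hmap (ClSub.toSubscheme (princ p t)) n)) from exact_hmap_hmap hS n)
  have hd : ∀ n, (Module.length R (LinearMap.range (overLin R (delta hS n)))).toNat =
      (Module.length R (LinearMap.ker (μ (n + 1)))).toNat := fun n => by
    refine congrArg ENat.toNat (LinearEquiv.ofEq _ _ ?_).length_eq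
    rw [← hμ (n + 1)]
    exact (LinearMap.exact_iff.1 (show Function.Exact (overLin R (delta hS n)) (overLin R (hmap f (n + 1)))
      from exact_delta_hmap hS n)).symm
  have h0 := toNat_exact _ _ (show Function.Exact (overLin R (hmap (ClSub.toSubscheme (princ p t)) 0))
    (overLin R (delta hS 0)) from exact_hmap_delta hS 0) (hlen 0 zero_le_one)
  have h1 := toNat_exact _ _ (show Function.Exact (overLin R (hmap (ClSub.toSubscheme (princ p t)) 1))
    (overLin R (delta hS 1)) from exact_hmap_delta hS 1) (hlen 1 le_rfl)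
  rw [hg, hd] at h0 h1
  have hk2 : (Module.length R (LinearMap.ker (μ 2))).toNat = 0 := by
    rw [LinearMap.ker_eq_bot.2 hμ2, Module.length_bot]; rfl
  have hk0 : (Module.length R (LinearMap.ker (μ 0))).toNat = 0 := by
    rw [LinearMap.ker_eq_bot.2 hμ0, Module.length_bot]; rfl
  haveI := hfin 1
  obtain ⟨d0, hr0, hi0⟩ := exists_index_eq (R := R) (Coh.HH X.left (Coh.structureModule X.left) 0) ht
  obtain ⟨d1, hr1, hi1⟩ := exists_index_eq (R := R) (Coh.HH X.left (Coh.structureModule X.left) 1) ht
  set N := Module.finrank R Γ(X.left, ⊤) with hN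
  have hNpos : 0 < N := by
    haveI : Module.Free R Γ(X.left, ⊤) := Module.free_of_finite_type_torsion_free'
    exact Module.finrank_pos
  have hd0 : d0 = 1 := by
    rw [e₀.finrank_eq, ← hN] at hr0
    exact Nat.eq_of_mul_eq_mul_right hNpos (hr0.symm.trans (one_mul N).symm)
  set ℓ := (Module.length R (Γ(X.left, ⊤) ⧸ LinearMap.range (smulR (R := R) t Γ(X.left, ⊤)))).toNat with hℓ
  have hℓpos : 0 < ℓ := by
    refine Nat.pos_of_ne_zero fun h => ?_
    have hz : Module.length R (Γ(X.left, ⊤) ⧸ LinearMap.range (smulR (R := R) t Γ(X.left, ⊤))) = 0 :=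
      ((ENat.toNat_eq_zero.1 h).resolve_right (length_coker_ne_top ht))
    haveI := Module.length_eq_zero_iff.1 hz
    obtain ⟨c, hc⟩ := (Submodule.Quotient.mk_eq_zero (LinearMap.range (smulR (R := R) t Γ(X.left, ⊤)))
      (x := 1)).1 (Subsingleton.elim _ _)
    have hx : Models.genPtOf R X E ∈ ((princ p t).support : Set X.left) := by
      rw [hJ]
      obtain ⟨b, hb⟩ : E.ι.ker ∣ E.ι.ker ^ a := dvd_pow_self _ ha.ne'
      rw [hb, Scheme.IdealSheafData.support_mul]
      refine Or.inl ?_
      rw [support_ker]
      exact ⟨_, rfl⟩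
    rw [support_princ] at hx
    exact (p (Models.genPtOf R X E)).isPrime.ne_top ((Ideal.eq_top_iff_one _).2
      (hc ▸ Ideal.mul_mem_right _ _ (Set.singleton_subset_iff.1 hx)))
  -- adjunction
  have hq := quad_eq_neg_two_chi hX (Γs := fun _ : Fin 1 => E) (fun i j _ => Subsingleton.elim i j)
    (L := fun _ => L) (fun _ => hL) hω (fun _ => a)
  simp only [Fin.sum_univ_one, hEE, mul_zero, zero_add, Groth.L05.EulerDiv.chi] at hq
  rw [← hdiv, ← hC] at hq
  -- the generic fibre
  have hχ : FGA.eulerCharLE (FractionRing R) ((Neron.genericFibre R).obj X).left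
      (Coh.structureModule ((Neron.genericFibre R).obj X).left) 1 = (N : ℤ) * (1 - d1) := by
    simp only [FGA.eulerCharLE, Finset.sum_range_succ, Finset.sum_range_zero, finrank_generic, hr0, hr1, hd0, ← hN]
    push_cast
    ring
  have hJval : ((Module.length R (Coh.HH X.left C 0)).toNat : ℤ) - (Module.length R (Coh.HH X.left C 1)).toNat =
      (ℓ : ℤ) * (1 - d1) := by
    subst hd0
    simp only [μ] at h0 h1 hk0 hk2
    have a0 := congrArg (Nat.cast : ℕ → ℤ) h0
    have a1 := congrArg (Nat.cast : ℕ → ℤ) h1
    have b0 := congrArg (Nat.cast : ℕ → ℤ) hi0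
    have b1 := congrArg (Nat.cast : ℕ → ℤ) hi1
    push_cast at a0 a1 b0 b1
    rw [hk0] at b0
    rw [hk2] at a1
    push_cast at a1 b0
    linear_combination a0 - a1 + b0 - b1
  refine ⟨(a : ℤ) * N, 2 * ℓ, by positivity, by positivity, ?_⟩
  rw [hχ]
  linear_combination (-(N : ℤ)) * hq + (2 * (N : ℤ)) * hJval

end Groth.L13.ArAdj
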