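import Groth.Agent.L13.ArAdj.GenFibre
import Groth.Agent.L13.ArAdj.Lengths
import Groth.Agent.L05.EulerDiv.Genus
import Groth.Agent.L13.CurveContr.Ample

/-!
# The canonical degree of the closed fibre
-/

set_option autoImplicit false
set_option backward.isDefEq.respectTransparency false
set_option linter.style.haveILetI false
set_option linter.unusedSectionVars false
universe u

open CategoryTheory CategoryTheory.Limits AlgebraicGeometry TopologicalSpace

noncomputable section

namespace Groth.L13.ArAdj

open Groth.L05.InterPair Groth.L05.FibreDecomp Groth.L05.EulerDiv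

variable {R : Type u} [CommRing R] [IsDomain R] [IsDiscreteValuationRing R]
  {X : Over (Spec (CommRingCat.of R))} (hX : ArSurf.IsArithSurface R X)

include hX in
/-- Every vertical curve has an inverse of its ideal. -/
theorem exists_inverse_vert (E : ArSurf.VertComp R X) :
    ∃ L : X.left.Modules, ClSub.IsInverseOf L (ClSub.idealMod E.ι.ker) := by
  obtain ⟨L, -, ⟨e⟩⟩ := Groth.L08.Cube.exists_inverse
    ((Groth.Agent.L19.IdealInvertible.isEffCartier_iff _).2 (Groth.L13.Canon.isEffCartier_vert hX E))
  exact ⟨L, ⟨Groth.L00.Tensor.tensorComm _ _ ≪≫ e⟩⟩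

include hX in
theorem isProper_genericFibre :
    IsProper (((Neron.genericFibre R).obj X).left ↘ Spec (CommRingCat.of (FractionRing R))) := by
  haveI : IsProper X.hom := Groth.L05.RelMinExists.isProper_of_projective hX.2.2.2.2
  exact MorphismProperty.pullback_snd (P := @IsProper) X.hom (Neron.genPt R) inferInstance

include hX in
theorem eulerCharLE_genericFibre :
    FGA.eulerCharLE (FractionRing R) ((Neron.genericFibre R).obj X).left
        (Coh.structureModule ((Neron.genericFibre R).obj X).left) 1 =
      Curv2.euler (FractionRing R) ((Neron.genericFibre R).obj X).left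
        (Coh.structureModule ((Neron.genericFibre R).obj X).left) := by
  haveI : IsProper X.hom := Groth.L05.RelMinExists.isProper_of_projective hX.2.2.2.2
  haveI := hX.2.1
  haveI := hX.2.2.2.1
  haveI := isProper_genericFibre hX
  haveI := Groth.L21.RR.isNoetherian_of_proper (X := ((Neron.genericFibre R).obj X).left) (FractionRing R)
  exact Groth.L22.Inter.eulerCharLE_eq (FractionRing R)
    (by rw [Nat.cast_one]; exact Groth.L13.CurveContr.dim_genericFibre_le X hX.2.2.1) _

include hX in
/-- `K · X_s = -2 χ(X_K)`. -/
theorem sum_mult_canonical {n : ℕ} {Γs : Fin n → ArSurf.VertComp R X} (hΓ : Models.IsComponentList R X Γs)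
    {ω : X.left.Modules} (hω : Canon.IsCanonical X.hom ω) :
    ∑ i, (Models.mult R X (Γs i) : ℤ) * ArSurf.inter R X ω (Γs i) =
      -2 * FGA.eulerCharLE (FractionRing R) ((Neron.genericFibre R).obj X).left
        (Coh.structureModule ((Neron.genericFibre R).obj X).left) 1 := by
  haveI : IsProper X.hom := Groth.L05.RelMinExists.isProper_of_projective hX.2.2.2.2
  haveI : IsLocallyNoetherian X.left := LocallyOfFiniteType.isLocallyNoetherian X.hom
  haveI := hX.2.1
  haveI := hX.2.2.2.1
  choose L hL using fun i => exists_inverse_vert hX (Γs i)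
  letI : X.left.Over (Spec (CommRingCat.of R)) := ⟨X.hom⟩
  rw [eulerCharLE_genericFibre hX, ← chi_specialFibre_generic fun k hk => by
    rw [specialFibreIdeal_eq_prod hX.1 hΓ]
    exact Groth.L05.EulerDiv.subsingleton_div hX.1 hΓ _ k hk, neg_mul, two_mul_chi_specialFibre hX.1 hΓ hL,
    ← Finset.sum_neg_distrib]
  refine Finset.sum_congr rfl fun i _ => ?_
  rw [canonical_inter_eq hX (Γs i) (hL i) hω]
  ring

end Groth.L13.ArAdj
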