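import Groth.Agent.L13.ArAdj.Lengths
import Groth.Agent.L13.ArAdj.FibreSum
import Groth.Agent.L13.CurveContr.Dim
import Groth.Agent.L05.MinExist.Data

/-!
# Castelnuovo's criterion in terms of the canonical sheaf
-/

set_option autoImplicit false
set_option backward.isDefEq.respectTransparency false
set_option linter.style.haveILetI false
set_option linter.unusedSectionVars false
universe u

open CategoryTheory CategoryTheory.Limits AlgebraicGeometry TopologicalSpace

noncomputable section

namespace Groth.L13.ArAdj

open Groth.L05.InterPair Groth.L05.EulerDiv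

variable {R : Type u} [CommRing R] [IsDomain R] [IsDiscreteValuationRing R]
  {X : Over (Spec (CommRingCat.of R))}

local notation "κ" => IsLocalRing.ResidueField R

variable (hX : ArSurf.IsArithSurface R X) (E : ArSurf.VertComp R X) {L : X.left.Modules}
  (hL : ClSub.IsInverseOf L (ClSub.idealMod E.ι.ker)) {ω : X.left.Modules} (hω : Canon.IsCanonical X.hom ω)

include hX hL hω

/-- If `2(w - h¹) + E·E` is positive and `E·E` negative, the genus vanishes and `E·E = -w`. -/
theorem numerics_of_neg (hK : ArSurf.inter R X ω E < 0) (hEE : ArSurf.inter R X L E < 0) :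
    Models.h1 R X E = 0 ∧ ArSurf.inter R X L E = -(Models.wdeg R X E : ℤ) ∧
      ArSurf.inter R X ω E = -(Models.wdeg R X E : ℤ) := by
  haveI : IsProper X.hom := Groth.L05.RelMinExists.isProper_of_projective hX.2.2.2.2
  haveI : IsNoetherianRing (CommRingCat.of R) := inferInstanceAs (IsNoetherianRing R)
  haveI : IsLocallyNoetherian X.left := LocallyOfFiniteType.isLocallyNoetherian X.hom
  have h := canonical_inter_eq hX E hL hω
  have hw : 0 < Models.wdeg R X E := wdeg_pos E
  obtain ⟨a, ha⟩ := wdeg_dvd_h1 E
  obtain ⟨b, hb⟩ := wdeg_dvd_inter E L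
  rw [ha] at h
  push_cast at h
  have hw' : (0 : ℤ) < Models.wdeg R X E := by exact_mod_cast hw
  have h1 : a = 0 := by
    rcases Nat.eq_zero_or_pos a with h0 | h0
    · exact h0
    · exfalso
      have : (1 : ℤ) ≤ a := by exact_mod_cast h0
      nlinarith
  subst h1
  have hb' : b = -1 := by
    rw [hb] at h hEE
    have h2 : b < 0 := by nlinarith
    have h3 : -2 < b := by
      by_contra hc
      have : b ≤ -2 := by omega
      nlinarith
    omega
  refine ⟨by rw [ha, mul_zero], by rw [hb, hb']; ring, ?_⟩
  rw [hb, hb'] at h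
  push_cast at h
  linarith

/-- Castelnuovo's criterion: such a curve is exceptional of the first kind. -/
theorem isExcCurve_of_neg (hK : ArSurf.inter R X ω E < 0) (hEE : ArSurf.inter R X L E < 0) :
    Models.IsExcCurve E.ι := by
  haveI : IsProper X.hom := Groth.L05.RelMinExists.isProper_of_projective hX.2.2.2.2
  haveI : IsNoetherianRing (CommRingCat.of R) := inferInstanceAs (IsNoetherianRing R)
  haveI : IsLocallyNoetherian X.left := LocallyOfFiniteType.isLocallyNoetherian X.hom
  haveI := hX.2.1
  obtain ⟨h1, hEE', -⟩ := numerics_of_neg hX E hL hω hK hEE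
  have hE := Groth.L13.Canon.isEffCartier_vert hX E
  haveI := isProper_curve E
  have hN : PicF.IsInvertible ((Scheme.Modules.pullback E.ι).obj (ClSub.idealMod E.ι.ker)) :=
    Groth.L18.Ample.isInvertible_pullback _ ((Groth.Agent.L19.IdealInvertible.isEffCartier_iff _).2 hE)
  have hdeg : ArSurf.curveDeg κ E.curve.left ((Scheme.Modules.pullback E.ι).obj (ClSub.idealMod E.ι.ker)) =
      (Models.wdeg R X E : ℤ) := by
    have h := inter_eq_neg_negDeg E hE hL
    rw [negDeg] at h
    show ArSurf.inter R X (ClSub.idealMod E.ι.ker) E = _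
    linarith
  obtain ⟨k, hk, e, ⟨i⟩⟩ := Groth.L05.ExcCurve.exists_projLine κ E.dim_eq hN h1 hdeg
  exact ⟨hE, k, hk, e, ⟨((Scheme.Modules.pullbackComp e.hom E.ι).app _).symm ≪≫ i⟩⟩

/-- The exceptional form of such a curve. -/
theorem exc_of_neg (hK : ArSurf.inter R X ω E < 0) (hEE : ArSurf.inter R X L E < 0) :
    ∃ (k' : Type u) (_ : Field k') (_ : Algebra κ k'),
        FiniteDimensional κ k' ∧
        ∃ e : E.curve.left ≅ CohB1.ProjSpace 1 k',
          e.hom ≫ (CohB1.ProjSpace 1 k' ↘ Spec (CommRingCat.of k')) ≫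
              Spec.map (CommRingCat.ofHom (algebraMap κ k')) = E.curve.hom ∧
            ArSurf.inter R X L E = -(Module.finrank κ k' : ℤ) := by
  haveI : IsProper X.hom := Groth.L05.RelMinExists.isProper_of_projective hX.2.2.2.2
  haveI : IsNoetherianRing (CommRingCat.of R) := inferInstanceAs (IsNoetherianRing R)
  haveI : IsLocallyNoetherian X.left := LocallyOfFiniteType.isLocallyNoetherian X.hom
  haveI := hX.2.1
  obtain ⟨k', i1, i2, i3, e, he, hi⟩ := Groth.L05.MinExist.exists_excData E (isExcCurve_of_neg hX E hL hω hK hEE) L hL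
  exact ⟨k', i1, i2, i3, e, he, hi⟩

/-- Conversely, an exceptional curve has negative degrees. -/
theorem neg_of_exc {k' : Type u} [Field k'] [Algebra κ k'] [FiniteDimensional κ k']
    (e : E.curve.left ≅ CohB1.ProjSpace 1 k')
    (he : e.hom ≫ (CohB1.ProjSpace 1 k' ↘ Spec (CommRingCat.of k')) ≫
        Spec.map (CommRingCat.ofHom (algebraMap κ k')) = E.curve.hom)
    (hself : ArSurf.inter R X L E = -(Module.finrank κ k' : ℤ)) :
    ArSurf.inter R X ω E < 0 ∧ ArSurf.inter R X L E < 0 := by
  haveI : IsProper X.hom := Groth.L05.RelMinExists.isProper_of_projective hX.2.2.2.2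
  haveI : IsNoetherianRing (CommRingCat.of R) := inferInstanceAs (IsNoetherianRing R)
  haveI : IsLocallyNoetherian X.left := LocallyOfFiniteType.isLocallyNoetherian X.hom
  have hP1 : Groth.L13.CurveContr.IsP1 E := ⟨k', inferInstance, ⟨e⟩⟩
  haveI := Groth.L13.CurveContr.subsingleton_h1_structure E hP1
  have h1 : Models.h1 R X E = 0 := Module.finrank_zero_of_subsingleton
  obtain ⟨-, hc⟩ := Groth.L13.CurveContr.finrank_constants E e he
  have hw : Models.wdeg R X E = Module.finrank κ k' := by
    rw [← hc]
    letI : Algebra κ Γ(E.curve.left, ⊤) := (Coh.toGlobal E.curve.hom).toAlgebra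
    exact LinearEquiv.finrank_eq
      { Groth.L21.RR.e0 (Coh.structureModule E.curve.left) with
        map_smul' := fun c x => Groth.L21.RR.e0_smul κ _ c x }
  have h := canonical_inter_eq hX E hL hω
  rw [h1, hw, hself] at h
  have hpos : (0 : ℤ) < Module.finrank κ k' := by exact_mod_cast Module.finrank_pos
  constructor <;> push_cast at h <;> omega

end Groth.L13.ArAdj
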