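import Groth.Agent.L05.EulerDiv.Fibre

/-!
# The Euler characteristic of the closed fibre is that of the generic fibre
-/

set_option autoImplicit false
set_option backward.isDefEq.respectTransparency false
set_option linter.style.haveILetI false
set_option linter.unusedSectionVars false
universe u

open CategoryTheory CategoryTheory.Limits AlgebraicGeometry TopologicalSpace Groth.L16

noncomputable section

namespace Groth.L13.ArAdj

open Groth.L05.InterPair Groth.L05.FibreDecomp Groth.L05.EulerDiv

variable {R : Type u} [CommRing R] [IsDomain R] [IsDiscreteValuationRing R]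
  {X : Over (Spec (CommRingCat.of R))} [IsProper X.hom] [IsLocallyNoetherian X.left]

/-- The Euler characteristic of the closed fibre of a model of a curve. -/
theorem chi_specialFibre_generic [Flat X.hom]
    (hvan : ∀ k, 2 ≤ k →
      Subsingleton (Coh.HH X.left (ClSub.quotMod (Models.specialFibreIdeal R X)) k)) :
    letI : X.left.Over (Spec (CommRingCat.of R)) := ⟨X.hom⟩
    chi R (ClSub.quotMod (Models.specialFibreIdeal R X)) =
      Curv2.euler (FractionRing R) ((Neron.genericFibre R).obj X).left
        (Coh.structureModule ((Neron.genericFibre R).obj X).left) := by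
  letI : X.left.Over (Spec (CommRingCat.of R)) := ⟨X.hom⟩
  haveI : IsNoetherianRing (CommRingCat.of R) := inferInstanceAs (IsNoetherianRing R)
  let K := FractionRing R
  let κ := IsLocalRing.ResidueField R
  let j : Spec (CommRingCat.of K) ⟶ Spec (CommRingCat.of R) := Spec.map (CommRingCat.ofHom (algebraMap R K))
  let i : Spec (CommRingCat.of κ) ⟶ Spec (CommRingCat.of R) := Spec.map (CommRingCat.ofHom (IsLocalRing.residue R))
  haveI : IsClosedImmersion i := isClosedImmersion_pt (R := R)
  -- constancy
  have hfp : CohB1.IsFP (Coh.structureModule X.left) :=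
    Groth.L16.EtaleFibre.isFP_structure
  have hlc := Groth.Agent.S1026.result X.hom (Coh.structureModule X.left) hfp (Groth.L16.EtaleFibre.isFlatOver_structure X.hom)
  haveI : IsDomain (CommRingCat.of R) := inferInstanceAs (IsDomain R)
  have heq := hlc.apply_eq_of_preconnectedSpace (j (IsLocalRing.closedPoint K)) (i (IsLocalRing.closedPoint κ))
  -- generic fibre
  have hgen := eulerChar_eq_of_isPullback X.hom K j (pullback.fst X.hom j) (pullback.snd X.hom j)
    (IsPullback.of_hasPullback X.hom j)
  rw [hgen] at heq
  -- closed fibre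
  rw [eulerChar_eq_of_isPullback X.hom κ i (pullback.fst X.hom i) (pullback.snd X.hom i)
    (IsPullback.of_hasPullback X.hom i)] at heq
  let P := pullback X.hom i
  let ι := pullback.fst X.hom i
  letI : P.Over (Spec (CommRingCat.of κ)) := ⟨pullback.snd X.hom i⟩
  haveI : IsProper (P ↘ Spec (CommRingCat.of κ)) := MorphismProperty.pullback_snd (P := @IsProper) X.hom i inferInstance
  haveI := Groth.L21.RR.isNoetherian_of_proper (X := P) κ
  have hker : ι.ker = Models.specialFibreIdeal R X := by
    show (pullback.fst X.hom i).ker = _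
    rw [Scheme.IdealSheafData.ker_fst_of_isClosedImmersion, ker_pt]
    rfl
  rw [← hker] at hvan ⊢
  haveI : X.left.IsSeparated := ⟨by rw [← terminal.comp_from X.hom]; infer_instance⟩
  let e : (Scheme.Modules.pushforward ι).obj (Coh.structureModule P) ≅ ClSub.quotMod ι.ker :=
    let e₀ : ι.ker.subscheme ≅ P := (asIso ι.toImage).symm
    (Scheme.Modules.pushforwardCongr (Scheme.Hom.toImage_imageι ι).symm).app _ ≪≫
      ((Scheme.Modules.pushforwardComp ι.toImage ι.ker.subschemeι).app _).symm ≪≫
      (Scheme.Modules.pushforward ι.ker.subschemeι).mapIso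
        (((Groth.L19.Conormal.pullbackIsoPush e₀).app _).symm ≪≫ Groth.L29.LocFree.pullbackUnitIso e₀.hom)
  letI : P.Over (Spec (CommRingCat.of R)) := ⟨ι ≫ X.hom⟩
  letI : X.left.Over (Spec (CommRingCat.of R)) := ⟨X.hom⟩
  have hO := Groth.L16.CohClosedPush.isCoh_structure (X := P)
  have hlen : ∀ k, Module.length R (Coh.HH X.left (ClSub.quotMod ι.ker) k) =
      (Module.finrank κ (Coh.HH P (Coh.structureModule P) k) : ℕ∞) := fun k => by
    obtain ⟨φ⟩ := exists_HH_push (A := R) (W := X.left) ι (Coh.structureModule P) hO.1 rfl k
    refine ((φ.trans (hhIso (A := R) e k)).length_eq).symm.trans ?_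
    haveI : Module.Finite κ (Coh.HH P (Coh.structureModule P) k) := Groth.L21.RR.finite_HH' (k := κ) hO k
    haveI : IsScalarTower R κ (Coh.HH P (Coh.structureModule P) k) :=
      IsScalarTower.of_algebraMap_smul fun r x => by
        have h0 : Coh.toGlobal (pullback.snd X.hom i) (IsLocalRing.residue R r) = Coh.toGlobal (ι ≫ X.hom) r := by
          rw [pullback.condition]
          simp only [Coh.toGlobal, Scheme.Hom.comp_appTop, CommRingCat.hom_comp, RingHom.comp_apply]
          exact congrArg (fun t => (pullback.snd X.hom i).appTop t)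
            congr($(Scheme.ΓSpecIso_inv_naturality (CommRingCat.ofHom (IsLocalRing.residue R))) r)
        exact congrArg (fun c : Coh.Γtop P => c • x) h0
    rw [Module.length_eq_of_surjective (S := R) (R := κ) (M := Coh.HH P (Coh.structureModule P) k)
      Ideal.Quotient.mk_surjective, Module.length_eq_finrank]
  refine Eq.trans ?_ heq.symm
  rw [Groth.L03.Euler.euler_eq_sum (k := κ) (X := P) (M := Coh.structureModule P) (N := 2) ?_]
  · simp only [chi, hlen, ENat.toNat_natCast, Finset.sum_range_succ, Finset.sum_range_zero]
    ring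
  · intro k hk
    obtain ⟨φ⟩ := exists_HH_push (A := R) (W := X.left) ι (Coh.structureModule P) hO.1 rfl k
    haveI : Subsingleton (Coh.HH X.left (ClSub.quotMod ι.ker) k) := hvan k hk
    exact (φ.trans (hhIso (A := R) e k)).toEquiv.subsingleton

end Groth.L13.ArAdj
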