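import Groth.Agent.L13.ArAdj.Principal
import Groth.Agent.L13.ArAdj.FibreSum
import Groth.Agent.L13.ArAdj.DivFamily
import Groth.Agent.L05.GeomMult.Components
import Groth.Agent.L05.InterPair.Vertical
import Groth.Agent.L05.InterPair.Negative
import Groth.Agent.L05.ExcCurve.Main
import Groth.Agent.L16.Connected.AppIso
import Groth.Agent.L16.ProperFinite
import Groth.Agent.L13.CurveContr.Degree

/-!
# A connected component of the closed fibre without first cohomology
-/

set_option autoImplicit false
set_option backward.isDefEq.respectTransparency false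
set_option linter.style.haveILetI false
set_option linter.unusedSectionVars false
universe u

open CategoryTheory CategoryTheory.Limits AlgebraicGeometry TopologicalSpace

noncomputable section

namespace Groth.L13.ArAdj

open Groth.L05.InterPair Groth.L05.FibreDecomp Groth.L05.EulerDiv

variable {R : Type u} [CommRing R] [IsDomain R] [IsDiscreteValuationRing R]
  {X : Over (Spec (CommRingCat.of R))} [IsProper X.hom] [IsLocallyNoetherian X.left]
  [IsIntegral X.left] [Flat X.hom] (hX : ArSurf.IsArithSurface R X)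
  (E : ArSurf.VertComp R X) {L : X.left.Modules} (hL : ClSub.IsInverseOf L (ClSub.idealMod E.ι.ker))

local notation "κ" => IsLocalRing.ResidueField R
local notation "rngE" => Set.range (E.ι.base : E.curve.left → X.left)

omit [IsIntegral X.left] [Flat X.hom] in
theorem range_subset_specialFibre : rngE ⊆ Models.specialFibreSet R X := by
  rintro _ ⟨z, rfl⟩
  show X.hom.base (E.ι.base z) = IsLocalRing.closedPoint R
  rw [← Scheme.Hom.comp_apply, E.w, Scheme.Hom.comp_apply]
  refine PrimeSpectrum.ext ?_
  generalize E.curve.hom z = t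
  show Ideal.comap (IsLocalRing.residue R) t.asIdeal = IsLocalRing.maximalIdeal R
  rw [(Ideal.eq_bot_or_top t.asIdeal).resolve_right t.2.ne_top]
  exact Ideal.mk_ker

include hX in
/-- Every vertical curve is the same curve as one of the components. -/
theorem exists_index {n : ℕ} {Γs : Fin n → ArSurf.VertComp R X} (hΓ : Models.IsComponentList R X Γs) :
    ∃ i, E.ι.ker = (Γs i).ι.ker := by
  obtain ⟨i, hi⟩ := exists_component hΓ (range_subset_specialFibre E ⟨genericPoint E.curve.left, rfl⟩ :
    Models.genPtOf R X E ∈ Models.specialFibreSet R X)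
  rw [← support_ker] at hi
  exact ⟨i, eq_of_mem_support hX.1 hX.2.2.1 hi⟩

include hX hL in
/-- A curve of non-negative self-intersection is a connected component of the closed fibre. -/
theorem component_of_nonneg (hEE : 0 ≤ ArSurf.inter R X L E) :
    ArSurf.inter R X L E = 0 ∧
      ∃ U : X.left.Opens, (U : Set X.left) ∩ Models.specialFibreSet R X = rngE := by
  classical
  obtain ⟨n, Γs, hΓ, -⟩ := Groth.L05.GeomMult.exists_componentList (X := X) hX.2.2.1
  obtain ⟨i₀, hi₀⟩ := exists_index hX E hΓ
  choose M hM using fun i => exists_inverse_vert hX (Γs i)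
  have hLinv := isInvertible_of_cartier (Groth.L13.Canon.isEffCartier_vert hX E) hL
  have hii : 0 ≤ ArSurf.inter R X (M i₀) (Γs i₀) := by
    have h1 := inter_eq_neg_negDeg (Γs i₀) (Groth.L13.Canon.isEffCartier_vert hX (Γs i₀)) (hM i₀)
    have h2 := inter_eq_neg_negDeg (Γs i₀) (Groth.L13.Canon.isEffCartier_vert hX E) hL
    rw [h1, ← hi₀, ← h2, ← inter_congr_curve hi₀ hLinv]
    exact hEE
  have hsum := sum_mult_mul_inter hX.1 hΓ hM (Γs i₀)
  have hterm : ∀ j, 0 ≤ (Models.mult R X (Γs j) : ℤ) * ArSurf.inter R X (M j) (Γs i₀) := fun j => by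
    rcases eq_or_ne i₀ j with rfl | hne
    · exact mul_nonneg (Int.natCast_nonneg _) hii
    · exact mul_nonneg (Int.natCast_nonneg _) (inter_nonneg_and_eq_zero_iff hX.1 hΓ hM hne).1
  have hzero : ∀ j, ArSurf.inter R X (M j) (Γs i₀) = 0 := fun j => by
    have h := (Finset.sum_eq_zero_iff_of_nonneg fun k _ => hterm k).1 hsum j (Finset.mem_univ j)
    have hm : (Models.mult R X (Γs j) : ℤ) ≠ 0 := by exact_mod_cast (mult_pos hX.1 hΓ j).ne'
    exact (mul_eq_zero.1 h).resolve_left hm
  refine ⟨?_, ?_⟩
  · rw [inter_congr_curve hi₀ hLinv, inter_eq_neg_negDeg (Γs i₀) (Groth.L13.Canon.isEffCartier_vert hX E) hL,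
      hi₀, ← inter_eq_neg_negDeg (Γs i₀) (Groth.L13.Canon.isEffCartier_vert hX (Γs i₀)) (hM i₀)]
    exact hzero i₀
  · have hr : rngE = Set.range ((Γs i₀).ι.base : (Γs i₀).curve.left → X.left) := by
      rw [← support_ker, ← support_ker, hi₀]
    let C : Set X.left := ⋃ j : {j // j ≠ i₀}, Set.range ((Γs j.1).ι.base : (Γs j.1).curve.left → X.left)
    have hC : IsClosed C := isClosed_iUnion_of_finite fun j => (Γs j.1).ι.isClosedEmbedding.isClosed_range
    refine ⟨⟨Cᶜ, hC.isOpen_compl⟩, Set.Subset.antisymm ?_ ?_⟩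
    · rintro x ⟨hxC, hxs⟩
      obtain ⟨j, hj⟩ := exists_component hΓ hxs
      rcases eq_or_ne j i₀ with rfl | hne
      · exact hr ▸ hj
      · exact absurd (Set.mem_iUnion.2 ⟨⟨j, hne⟩, hj⟩) hxC
    · refine fun x hx => ⟨fun hxC => ?_, range_subset_specialFibre E hx⟩
      obtain ⟨⟨j, hne⟩, hj⟩ := Set.mem_iUnion.1 hxC
      exact Set.disjoint_left.1 ((inter_nonneg_and_eq_zero_iff hX.1 hΓ hM (Ne.symm hne)).2.1 (hzero j))
        (hr ▸ hx) hj

include hX hL in
/-- A connected component of the closed fibre has self-intersection zero. -/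
theorem selfInter_zero_of_isolated
    (hU : ∃ U : X.left.Opens, (U : Set X.left) ∩ Models.specialFibreSet R X = rngE) :
    ArSurf.inter R X L E = 0 := by
  classical
  obtain ⟨U, hU⟩ := hU
  obtain ⟨n, Γs, hΓ, -⟩ := Groth.L05.GeomMult.exists_componentList (X := X) hX.2.2.1
  obtain ⟨i₀, hi₀⟩ := exists_index hX E hΓ
  choose M hM using fun i => exists_inverse_vert hX (Γs i)
  have hLinv := isInvertible_of_cartier (Groth.L13.Canon.isEffCartier_vert hX E) hL
  have hr : rngE = Set.range ((Γs i₀).ι.base : (Γs i₀).curve.left → X.left) := by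
    rw [← support_ker, ← support_ker, hi₀]
  have hdis : ∀ j, i₀ ≠ j → ArSurf.inter R X (M j) (Γs i₀) = 0 := fun j hne => by
    refine (inter_nonneg_and_eq_zero_iff hX.1 hΓ hM hne).2.2 (Set.disjoint_left.2 fun x hx hxj => hne ?_)
    refine (eq_of_genPtOf_mem hΓ (i := j) (j := i₀) ?_).symm
    have hxU : x ∈ (U : Set X.left) := (hU.ge (hr ▸ hx)).1
    have hg : Models.genPtOf R X (Γs j) ⤳ x :=
      (isGenericPoint_genPtOf (Γs j)).specializes (by rw [support_ker]; exact hxj)
    have hgs : Models.genPtOf R X (Γs j) ∈ Models.specialFibreSet R X :=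
      range_subset_specialFibre (Γs j) ⟨_, rfl⟩
    rw [support_ker, ← hr]
    exact hU.le ⟨hg.mem_open U.2 hxU, hgs⟩
  have hsum := sum_mult_mul_inter hX.1 hΓ hM (Γs i₀)
  rw [Finset.sum_eq_single i₀ (fun j _ hj => by rw [hdis j (Ne.symm hj), mul_zero])
    (fun h => absurd (Finset.mem_univ i₀) h)] at hsum
  have hm : (Models.mult R X (Γs i₀) : ℤ) ≠ 0 := by exact_mod_cast (mult_pos hX.1 hΓ i₀).ne'
  rw [inter_congr_curve hi₀ hLinv, inter_eq_neg_negDeg (Γs i₀) (Groth.L13.Canon.isEffCartier_vert hX E) hL,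
    hi₀, ← inter_eq_neg_negDeg (Γs i₀) (Groth.L13.Canon.isEffCartier_vert hX (Γs i₀)) (hM i₀)]
  exact (mul_eq_zero.1 hsum).resolve_left hm

/-- On a curve without first cohomology, invertible modules of non-negative degree have none either. -/
theorem subsingleton_h1_curve (h1 : Models.h1 R X E = 0) {N : E.curve.left.Modules} (hN : PicF.IsInvertible N)
    (h : 0 ≤ ArSurf.curveDeg κ E.curve.left N) : Subsingleton (Coh.HH E.curve.left N 1) := by
  haveI := E.isIntegral
  haveI := isProper_curve E
  haveI : E.curve.left.IsSeparated := ⟨by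
    rw [← terminal.comp_from (E.curve.left ↘ Spec (CommRingCat.of κ))]; infer_instance⟩
  haveI := Groth.L21.RR.isNoetherian_of_proper (X := E.curve.left) κ
  haveI := Groth.L21.RR.finite_HH' (k := κ) (Groth.L16.CohClosedPush.isCoh_structure (X := E.curve.left)) 1
  have hnef : Groth.L12.GenusZero.Nef κ N := fun C j _ hC hdim => by
    haveI := Groth.L13.CurveContr.isIso_of_curve E.dim_eq j hC hdim
    letI : C.Over (Spec (CommRingCat.of κ)) := ⟨j ≫ (E.curve.left ↘ Spec (CommRingCat.of κ))⟩
    rw [Groth.L12.GenusZero.deg_pullback_of_isIso κ j rfl hN, Curv2.deg, Nat.cast_one, one_mul]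
    rwa [curveDeg_eq_euler κ E.dim_eq] at h
  exact Groth.L12.GenusZero.subsingleton_h1 (Groth.L12.GenusZero.fiber_dim_le κ (X := E.curve.left) E.dim_eq.le)
    (Module.finrank_zero_iff.1 h1) hN (Groth.L12.GenusZero.nefOver_of_nef κ hnef)

include hX hL in
/-- A component which is a connected component of the closed fibre is, up to multiplicity, cut out by one
global function. -/
theorem exists_princ_eq_pow (hEE : ArSurf.inter R X L E = 0) :
    ∃ (t : Γ(X.left, ⊤)) (a : ℕ), t ≠ 0 ∧ 0 < a ∧ princ (Groth.L05.ExcCurve.sΓ X.left) t = E.ι.ker ^ a := by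
  classical
  obtain ⟨-, U, hU⟩ := component_of_nonneg hX E hL hEE.ge
  let A := Γ(X.left, ⊤)
  let p : X.left ⟶ Spec (CommRingCat.of A) := Groth.L05.ExcCurve.sΓ X.left
  let φ : CommRingCat.of R ⟶ Γ(X.left, ⊤) :=
    (Scheme.ΓSpecIso (CommRingCat.of R)).inv ≫ X.hom.appTop
  have hpφ : p ≫ Spec.map φ = X.hom := by
    refine ext_of_isAffine ?_
    show (X.left.toSpecΓ ≫ Spec.map φ).appTop = _
    rw [Scheme.Hom.comp_appTop, Scheme.toSpecΓ_appTop, Scheme.ΓSpecIso_naturality φ]
    simp [φ]
  haveI : IsProper (p ≫ Spec.map φ) := hpφ ▸ inferInstance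
  haveI : IsSeparated (Spec.map φ) := inferInstance
  haveI : IsProper p := IsProper.of_comp p (Spec.map φ)
  have htop : ∀ a : A, (show Γ(X.left, ⊤) from Coh.toGlobal p a) = a := Groth.L05.ExcCurve.toGlobal_sΓ X.left
  -- finiteness
  letI : X.left.Over (Spec (CommRingCat.of R)) := ⟨X.hom⟩
  haveI : IsProper (X.left ↘ Spec (CommRingCat.of R)) := ‹IsProper X.hom›
  haveI : IsNoetherianRing (CommRingCat.of R) := inferInstanceAs (IsNoetherianRing R)
  letI : Algebra R A := φ.hom.toAlgebra
  haveI hH0 : Module.Finite R (Coh.HH X.left (Coh.structureModule X.left) 0) :=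
    Groth.L16.ProperFinite.finite_HH R (Groth.L16.CohClosedPush.isCoh_structure (X := X.left)) 0
  haveI : Module.Finite R A := Module.Finite.equiv
    ({ Groth.L21.RR.e0 (Coh.structureModule X.left) with
        map_smul' := fun c x => by
          show Sheaf.H.equiv₀ _ _ (Sheaf.H.map (Coh.smulAb (Coh.structureModule X.left) _) 0 x) = _
          rw [← Sheaf.H.equiv₀_naturality]
          refine (Coh.smulAb_app (Coh.structureModule X.left) _ (Opposite.op ⊤) _).trans ?_
          show Coh.resTop X.left (Opposite.op ⊤) _ * _ = _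
          congr 1
          simp [Coh.resTop, φ]
          rfl } : Coh.HH X.left (Coh.structureModule X.left) 0 ≃ₗ[R] A)
  haveI : Algebra.IsIntegral R A := Algebra.IsIntegral.of_finite R A
  have hinj : Function.Injective (algebraMap R A) := by
    refine (injective_iff_map_eq_zero _).2 fun r hr => ?_
    by_contra hne
    refine stalkHom_ne_zero (X := X) (genericPoint X.left) hne ?_
    have h := congrArg (X.left.presheaf.germ ⊤ (genericPoint X.left) trivial) hr
    rw [map_zero] at h
    exact h
  haveI : IsNoetherianRing A := IsNoetherianRing.of_finite R A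
  -- the point of the component
  let x₀ := Models.genPtOf R X E
  let q := p x₀
  have hx₀ : x₀ ∈ rngE := ⟨_, rfl⟩
  have hq : Ideal.comap φ.hom q.asIdeal = IsLocalRing.maximalIdeal R := by
    have h : X.hom x₀ = IsLocalRing.closedPoint R := range_subset_specialFibre E hx₀
    rw [← hpφ] at h
    exact congrArg PrimeSpectrum.asIdeal h
  haveI hqmax : q.asIdeal.IsMaximal := by
    have : (Ideal.comap (algebraMap R A) q.asIdeal).IsMaximal := by
      show (Ideal.comap φ.hom q.asIdeal).IsMaximal
      rw [hq]; exact IsLocalRing.maximalIdeal.isMaximal R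
    exact Ideal.isMaximal_of_isIntegral_of_isMaximal_comap (R := R) q.asIdeal this
  -- a function vanishing only there
  have hfin : {P : Ideal A | P.IsMaximal}.Finite := by
    let J : Ideal A := (IsLocalRing.maximalIdeal R).map (algebraMap R A)
    haveI : Module.Finite R (A ⧸ J) := Module.Finite.of_surjective
      (Ideal.Quotient.mkₐ R J).toLinearMap Ideal.Quotient.mk_surjective
    haveI : IsArtinianRing (A ⧸ J) := by
      letI : Algebra κ (A ⧸ J) := (Ideal.Quotient.lift (IsLocalRing.maximalIdeal R)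
        (algebraMap R (A ⧸ J)) fun r hr => Ideal.Quotient.eq_zero_iff_mem.2 (Ideal.mem_map_of_mem _ hr)).toAlgebra
      haveI : IsScalarTower R κ (A ⧸ J) := IsScalarTower.of_algebraMap_eq fun r => rfl
      haveI : Module.Finite κ (A ⧸ J) := Module.Finite.of_restrictScalars_finite R κ _
      exact IsArtinianRing.of_finite κ (A ⧸ J)
    refine Set.Finite.of_finite_image (f := fun P => P.map (Ideal.Quotient.mk J))
      ((IsArtinianRing.setOfPred_isMaximal_finite (A ⧸ J)).subset ?_) fun P hP Q hQ hPQ => ?_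
    · rintro _ ⟨P, hP, rfl⟩
      haveI : P.IsMaximal := hP
      have hle : J ≤ P := by
        have := IsLocalRing.eq_maximalIdeal (Ideal.isMaximal_comap_of_isIntegral_of_isMaximal (R := R) P)
        exact Ideal.map_le_iff_le_comap.2 this.ge
      exact (Ideal.map_eq_top_or_isMaximal_of_surjective _ Ideal.Quotient.mk_surjective ‹_›).resolve_left
        fun h => hP.ne_top (by
          have h' := congrArg (Ideal.comap (Ideal.Quotient.mk J)) h
          rwa [Ideal.comap_map_quotientMk, Ideal.comap_top, sup_eq_right.2 hle] at h')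
    · have hle : ∀ P : Ideal A, P.IsMaximal → J ≤ P := fun P hP => by
        haveI := hP
        exact Ideal.map_le_iff_le_comap.2
          (IsLocalRing.eq_maximalIdeal (Ideal.isMaximal_comap_of_isIntegral_of_isMaximal (R := R) P)).ge
      have h := congrArg (Ideal.comap (Ideal.Quotient.mk J)) hPQ
      rwa [Ideal.comap_map_quotientMk, Ideal.comap_map_quotientMk, sup_eq_right.2 (hle P hP),
        sup_eq_right.2 (hle Q hQ)] at h
  obtain ⟨ϖ, hϖ⟩ := IsDiscreteValuationRing.exists_irreducible R
  have hbot : q.asIdeal ≠ ⊥ := fun h => by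
    have hm : algebraMap R A ϖ ∈ q.asIdeal := by
      show ϖ ∈ Ideal.comap φ.hom q.asIdeal
      rw [hq, hϖ.maximalIdeal_eq]; exact Ideal.mem_span_singleton_self ϖ
    rw [h, Ideal.mem_bot] at hm
    exact hϖ.ne_zero (hinj (hm.trans (map_zero _).symm))
  obtain ⟨t, htq, ht⟩ : ∃ t ∈ q.asIdeal, t ∉ ⋃ P ∈ (↑(insert ⊥ (hfin.toFinset.erase q.asIdeal)) : Set (Ideal A)),
      (P : Set A) := by
    refine Set.not_subset.1 fun h => ?_
    obtain ⟨P, hP, hle⟩ := (Ideal.subset_union_prime ⊥ ⊥ fun P hP _ _ => by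
      rcases Finset.mem_insert.1 hP with rfl | hP'
      · exact Ideal.isPrime_bot
      · exact (hfin.mem_toFinset.1 (Finset.mem_of_mem_erase hP')).isPrime).1 h
    rcases Finset.mem_insert.1 hP with rfl | hP'
    · exact hbot (le_bot_iff.1 hle)
    · exact (Finset.ne_of_mem_erase hP') (hqmax.eq_of_le (hfin.mem_toFinset.1 (Finset.mem_of_mem_erase hP')).ne_top hle).symm
  simp only [Set.mem_iUnion, not_exists] at ht
  have ht0 : t ≠ 0 := fun h => ht ⊥ (by simp) (by simp [h])
  have hzl : PrimeSpectrum.zeroLocus {t} = ({q} : Set (PrimeSpectrum A)) := by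
    ext P
    simp only [PrimeSpectrum.mem_zeroLocus, Set.singleton_subset_iff, Set.mem_singleton_iff, SetLike.mem_coe]
    refine ⟨fun h => ?_, fun h => h ▸ htq⟩
    have hPmax : P.asIdeal.IsMaximal := by
      have hne : Ideal.comap (algebraMap R A) P.asIdeal ≠ ⊥ :=
        Ideal.comap_ne_bot_of_integral_mem ht0 h (Algebra.IsIntegral.isIntegral t)
      exact Ideal.isMaximal_of_isIntegral_of_isMaximal_comap (R := R) P.asIdeal
        ((Ideal.IsPrime.comap _).isMaximal hne)
    by_contra hne
    exact ht P.asIdeal (Finset.mem_coe.2 (Finset.mem_insert_of_mem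
      (Finset.mem_erase.2 ⟨fun e => hne (PrimeSpectrum.ext e), hfin.mem_toFinset.2 hPmax⟩))) h
  -- the fibre is the component
  have hbij : Function.Bijective (p.app ⊤) := by
    have : IsIso p.appTop := by
      show IsIso X.left.toSpecΓ.appTop
      rw [Scheme.toSpecΓ_appTop]; infer_instance
    exact ConcreteCategory.bijective_of_isIso p.appTop
  have hconn : _root_.IsPreconnected (p ⁻¹' {q}) := by
    haveI := Groth.L16.Connected.geometricallyConnected_fiber_of_bijective p
      (U := ⊤) (isAffineOpen_top _) hbij (y := q) trivial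
    haveI : ConnectedSpace ↥(p.fiber q) := GeometricallyConnected.connectedSpace (p.fiberToSpecResidueField q)
      fun V _ => isOpen_discrete _
    rw [← p.range_fiberι q]
    exact isPreconnected_range (p.fiberι q).continuous
  have hfib : p ⁻¹' {q} ⊆ rngE := by
    have hs : p ⁻¹' {q} ⊆ Models.specialFibreSet R X := fun x hx => by
      show X.hom x = IsLocalRing.closedPoint R
      rw [← hpφ, Scheme.Hom.comp_apply, show p x = q from hx]
      exact PrimeSpectrum.ext hq
    intro x hx
    by_contra hxE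
    obtain ⟨y, hy, hy1, hy2⟩ := hconn (U : Set X.left) rngEᶜ U.2 E.ι.isClosedEmbedding.isClosed_range.isOpen_compl
      (fun z _ => (em (z ∈ rngE)).imp (fun hz => (hU.ge hz).1) id) ⟨x₀, rfl, (hU.ge hx₀).1⟩ ⟨x, hx, hxE⟩
    exact hy2 (hU.le ⟨hy1, hs hy⟩)
  have htg : (show Γ(X.left, ⊤) from Coh.toGlobal p t) ≠ 0 := by rw [htop]; exact ht0
  have hJ := isEffCartier_princ p htg
  have hJs : ((princ p t).support : Set X.left) = p ⁻¹' {q} := by rw [support_princ, hzl]
  obtain ⟨n, Γs, hΓ, -⟩ := Groth.L05.GeomMult.exists_componentList (X := X) hX.2.2.1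
  obtain ⟨i₀, hi₀⟩ := exists_index hX E hΓ
  obtain ⟨e, he⟩ := exists_eq_div hX.1 hΓ hJ
    (by rw [hJs]; exact hfib.trans (range_subset_specialFibre E))
  have he' : ∀ j, j ≠ i₀ → e j = 0 := fun j hj => by
    by_contra hne
    have hg : Models.genPtOf R X (Γs j) ∈ ((princ p t).support : Set X.left) := by
      obtain ⟨b, hb⟩ : (Γs j).ι.ker ∣ Groth.L05.InterPair.div Γs e :=
        (dvd_pow_self _ hne).trans (Finset.dvd_prod_of_mem _ (Finset.mem_univ j))
      rw [he, hb, Scheme.IdealSheafData.support_mul]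
      refine Or.inl ?_
      rw [support_ker]
      exact ⟨_, rfl⟩
    rw [hJs] at hg
    have := hfib hg
    rw [← support_ker, hi₀] at this
    exact hj (eq_of_genPtOf_mem hΓ this)
  have heq : princ p t = E.ι.ker ^ e i₀ := by
    rw [he, Groth.L05.InterPair.div, Finset.prod_eq_single i₀ (fun j _ hj => by rw [he' j hj, pow_zero])
      (fun h => absurd (Finset.mem_univ i₀) h), ← hi₀]
  refine ⟨t, e i₀, ht0, Nat.pos_of_ne_zero fun h0 => ?_, heq⟩
  have hx : x₀ ∈ ((princ p t).support : Set X.left) := by rw [hJs]; rfl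
  rw [heq, h0, pow_zero] at hx
  exact notMem_support_one x₀ hx

end Groth.L13.ArAdj
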