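import Groth.Agent.L22.Ideal
import Groth.Agent.L07.ParafPrincipal
import Groth.Agent.L21.RR.PicFieldExt
import Groth.Agent.L21.RR.Twist
import Groth.Agent.L21.RR.Equality
import Groth.Agent.L05.GabberRig.Global
import Groth.Agent.L16.CohLinear
import Groth.Prelude.Def_Curv2

/-!
# The divisor of a global function on an integral scheme
-/

set_option autoImplicit false
set_option backward.isDefEq.respectTransparency false
set_option backward.isDefEq.respectTransparency.types false
set_option linter.style.haveILetI false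
set_option linter.unusedSectionVars false
universe u

open CategoryTheory CategoryTheory.Limits AlgebraicGeometry TopologicalSpace Opposite

noncomputable section

namespace Groth.L13.ArAdj

open Groth.L21.Extend Groth.Agent.L19.IdealInvertible

variable {A : Type u} [CommRing A] {X : Scheme.{u}} [IsIntegral X] (p : X ⟶ Spec (CommRingCat.of A))
  (t : A)

/-- The ideal sheaf generated by a function from the base. -/
def princ : X.IdealSheafData :=
  (Scheme.IdealSheafData.ofIdealTop ((Ideal.span {t}).map (Scheme.ΓSpecIso (CommRingCat.of A)).inv.hom)).comap p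

theorem support_princ : ((princ p t).support : Set X) = p.base ⁻¹' PrimeSpectrum.zeroLocus {t} := by
  rw [princ, Scheme.IdealSheafData.support_comap]
  rw [TopologicalSpace.Closeds.coe_preimage]
  congr 1
  rw [Scheme.IdealSheafData.coe_support_ofIdealTop, Ideal.map, Scheme.zeroLocus_span,
    Spec_zeroLocus_eq_zeroLocus, PrimeSpectrum.zeroLocus_span]

theorem ideal_princ (V : X.affineOpens) :
    (princ p t).ideal V =
      Ideal.span {rO X (le_top : V.1 ≤ ⊤) (show Γ(X, ⊤) from Coh.toGlobal p t)} := by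
  rw [princ, Groth.L22.Ideals.comap_ideal p _ ⟨⊤, isAffineOpen_top _⟩ V le_top,
    Scheme.IdealSheafData.ofIdealTop_ideal]
  simp only [Ideal.map_span, Set.image_singleton]
  congr 2

variable {t} (ht : (show Γ(X, ⊤) from Coh.toGlobal p t) ≠ 0)

include ht

theorem exists_frame_princ : ∃ m : Γ(ClSub.idealMod (princ p t), ⊤),
    io (princ p t) ⊤ m = (show Γ(X, ⊤) from Coh.toGlobal p t) ∧
      Groth.L18.Frame.IsFrame (ClSub.idealMod (princ p t)) ⊤ m := by
  classical
  set f : Γ(X, ⊤) := Coh.toGlobal p t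
  let J := princ p t
  choose V hV hxV hVt using fun x : X =>
    exists_isAffineOpen_mem_and_subset (x := x) (U := (⊤ : X.Opens)) trivial
  have hne : ∀ x, rO X (le_top : V x ≤ ⊤) f ≠ 0 := fun x h => ht (by
    refine germ_injective_of_isIntegral X x (U := ⊤) trivial ?_
    rw [map_zero, ← TopCat.Presheaf.germ_res_apply X.presheaf (homOfLE (le_top : V x ≤ ⊤)) x (hxV x) f]
    exact (congrArg (X.presheaf.germ (V x) x (hxV x)) h).trans (map_zero _))
  choose g hg using fun x => (Groth.L18.IdealModule.mem_ideal_iff J (hV x) (rO X (le_top : V x ≤ ⊤) f)).1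
    ((ideal_princ p t ⟨V x, hV x⟩).ge (Ideal.mem_span_singleton_self _))
  obtain ⟨m, hm⟩ := exists_glue (ClSub.idealMod J) V ⊤ (fun _ => le_top)
    (fun y _ => ⟨y, hxV y⟩) g fun i j => by
      apply io_inj J
      rw [io_rs, io_rs]
      show rO X _ (io J (V i) (g i)) = rO X _ (io J (V j) (g j))
      rw [show io J (V i) (g i) = rO X (le_top : V i ≤ ⊤) f from hg i,
        show io J (V j) (g j) = rO X (le_top : V j ≤ ⊤) f from hg j]
      exact (rO_rO _ _ f).trans (rO_rO _ _ f).symm
  have hio : io J ⊤ m = f := by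
    refine eq_of_locally (Coh.structureModule X) (io J ⊤ m) f fun y _ => ⟨V y, le_top, hxV y, ?_⟩
    show rO X (le_top : V y ≤ ⊤) (io J ⊤ m) = rO X (le_top : V y ≤ ⊤) f
    rw [← io_rs, hm y]
    exact hg y
  refine ⟨m, hio, Groth.L18.Frame.IsFrame.of_cover (fun x => V x) (fun _ => le_top)
    (fun x _ => Opens.mem_iSup.2 ⟨x, hxV x⟩) fun x => ?_⟩
  obtain ⟨m', hm'⟩ := Groth.L07.ParafPrincipal.isGen_idealMod J ⟨V x, hV x⟩ _ (ideal_princ p t ⟨V x, hV x⟩) (hne x)
  -- two generators differ by a unit
  obtain ⟨a, ha⟩ := (hm' (V x) le_rfl).2 (rs (ClSub.idealMod J) (le_top : V x ≤ ⊤) m)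
  have hu : IsUnit a := by
    have h1 : io J (V x) m' ∈ J.ideal ⟨V x, hV x⟩ :=
      (Groth.L18.IdealModule.mem_ideal_iff J (hV x) _).2 ⟨m', rfl⟩
    rw [ideal_princ] at h1
    obtain ⟨c, hc⟩ := Ideal.mem_span_singleton'.1 h1
    have h2 : a * io J (V x) (rs (ClSub.idealMod J) le_rfl m') = rO X (le_top : V x ≤ ⊤) f := by
      rw [← io_smul]
      exact (congrArg (io J (V x)) ha).trans ((io_rs J _ m).trans (congrArg _ hio))
    have hid : rs (ClSub.idealMod J) (le_refl (V x)) m' = m' := by simp [rs]
    rw [hid, ← hc] at h2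
    haveI : Nonempty (V x).toScheme := ⟨⟨x, hxV x⟩⟩
    haveI : IsDomain Γ(X, V x) := IsIntegral.component_integral (V x)
    exact IsUnit.of_mul_eq_one c (mul_right_cancel₀ (hne x) (by rw [one_mul, mul_assoc]; exact h2))
  have := Groth.L18.Frame.IsFrame.smul_unit (M := ClSub.idealMod J) (e := m') hm' hu
  have hid : rs (ClSub.idealMod J) (le_refl (V x)) m' = m' := by simp [rs]
  rw [← hid] at this
  exact (show Groth.L18.Frame.IsFrame _ _ (rs (ClSub.idealMod J) (le_top : V x ≤ ⊤) m) from ha ▸ this)

theorem isEffCartier_princ : BlowUp.IsEffCartierIdeal (princ p t) := by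
  obtain ⟨m, -, hm⟩ := exists_frame_princ p ht
  obtain ⟨e⟩ := Groth.L21.PicExt.nonempty_iso_of_isFrame_top (s := m) hm
  exact (isEffCartier_iff _).1 (Groth.L18.Ample.isInvertible_of_iso e
    (Groth.L18.Ample.isInvertible_structureModule X))

/-- The sequence of the divisor: multiplication by the function, then restriction. -/
theorem exists_ses_princ : ∃ (f : Coh.structureModule X ⟶ Coh.structureModule X)
    (w : f ≫ ClSub.toSubscheme (princ p t) = 0),
      (ShortComplex.mk f (ClSub.toSubscheme (princ p t)) w).ShortExact ∧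
        ∀ (n : ℕ) (x : Coh.HH X (Coh.structureModule X) n),
          Groth.L16.CohLinear.hmap f n x = Coh.toGlobal p t • x := by
  obtain ⟨m, hio, hm⟩ := exists_frame_princ p ht
  let φ := Groth.L16.homOfSection (ClSub.idealMod (princ p t)) m
  haveI : IsIso φ := Groth.L16.isIso_homOfSection _ m fun V => hm V le_top
  have w : (φ ≫ ClSub.idealModι (princ p t)) ≫ ClSub.toSubscheme (princ p t) = 0 := by
    rw [Category.assoc, show ClSub.idealModι (princ p t) ≫ ClSub.toSubscheme (princ p t) = 0 from
      (Groth.L21.RR.idealSeq (princ p t)).zero, comp_zero]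
  refine ⟨φ ≫ ClSub.idealModι (princ p t), w, ?_, fun n x => ?_⟩
  · refine ShortComplex.shortExact_of_iso ?_ (Groth.L21.RR.shortExact_idealSeq (princ p t))
    exact ShortComplex.isoMk (asIso φ).symm (Iso.refl _) (Iso.refl _)
      (by simp [Groth.L21.RR.idealSeq]) (by simp [Groth.L21.RR.idealSeq])
  · have hμ : Groth.L16.CohLinear.tm (φ ≫ ClSub.idealModι (princ p t)) =
        Coh.smulAb (Coh.structureModule X) (Coh.toGlobal p t) := by
      ext U r
      change (ClSub.idealModι (princ p t)).app U.unop (φ.app U.unop r) = _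
      rw [Groth.L16.homOfSection_app, Coh.smulAb_app, Scheme.Modules.Hom.app_smul]
      refine Eq.trans ?_ (mul_comm (G := Γ(X, U.unop)) _ _)
      exact congrArg (fun z : Γ(X, U.unop) => (show Γ(X, U.unop) from r) * z)
        ((io_rs (princ p t) (le_top : U.unop ≤ ⊤) m).trans (congrArg _ hio))
    show Sheaf.H.map (Groth.L16.CohLinear.tm _) n x = _
    rw [hμ]
    rfl

end Groth.L13.ArAdj
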